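import Cfsg.Agent.Lib.Invol.BenderCover.Main
import Cfsg.Agent.Lib.Recog.SU3Sylow
import Cfsg.Agent.Lib.Lie.Sz.SylowLie
import Cfsg.Agent.Lib.Invol.Sylow

/-!
# The derived group of a Sylow 2-subgroup over a unitary or Suzuki group

The Sylow 2-subgroups of `PSU(3, q)` and `Sz(q)` are not abelian, so their derived groups contain every
involution of their centres.
-/

set_option autoImplicit false
set_option linter.style.haveILetI false

open Subgroup
open scoped commutatorElement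

namespace Cfsg.Agent.Invol.CentInt

theorem psu_sylow_nonabelian {F : Type*} [Field F] [Fintype F] {q n : ℕ} (hF : Fintype.card F = q ^ 2)
    (hq : q = 2 ^ n) (hn : 1 ≤ n) (P : Sylow 2 (Cfsg.PSU 3 F q)) :
    ¬ IsMulCommutative ↥(P : Subgroup (Cfsg.PSU 3 F q)) := by
  haveI : Fact (Fintype.card F = q ^ 2) := ⟨hF⟩
  haveI : CharP F 2 := Recog.SU3Two.charP_two (m := n * 2) (by rw [hF, hq, ← pow_mul])
  obtain ⟨e⟩ := Recog.SU3Two.sylow_psu hq hn P
  obtain ⟨x, hx⟩ := Recog.SU3Two.exists_trq_one (F := F) (q := q)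
  have hxq : x ^ q ≠ x := fun h => by
    rw [h, CharTwo.add_self_eq_zero] at hx
    exact zero_ne_one hx
  have hsol : ∀ a : F, ∃ u : Recog.SU3Two.UT F q, u.a = a := fun a => by
    refine ⟨⟨a, x * (a * a ^ q), ?_⟩, rfl⟩
    have h1 : (a * a ^ q) ^ q = a * a ^ q := by rw [mul_pow, Recog.SU3Two.pq_pq, mul_comm]
    rw [mul_pow, h1, ← add_mul, hx, one_mul]
  obtain ⟨u, hu⟩ := hsol 1
  obtain ⟨v, hv⟩ := hsol x
  intro hP
  have h := congrArg Recog.SU3Two.UT.b (e.injective (by rw [map_mul, map_mul]; exact hP.is_comm.comm _ _) :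
    u * v = v * u)
  rw [Recog.SU3Two.UT.mul_b, Recog.SU3Two.UT.mul_b, hu, hv, one_pow, one_mul, mul_one, add_comm v.b u.b] at h
  exact hxq (add_left_cancel h).symm

theorem suzuki_sylow_nonabelian {F : Type*} [Field F] [Fintype F] {m : ℕ} (hm : 1 ≤ m)
    (hF : Fintype.card F = 2 ^ (2 * m + 1)) (P : Sylow 2 ↥(Cfsg.Lie.Sz F (2 ^ (m + 1)))) :
    ¬ IsMulCommutative ↥(P : Subgroup ↥(Cfsg.Lie.Sz F (2 ^ (m + 1)))) := by
  haveI : Fact (Nat.Prime 2) := ⟨Nat.prime_two⟩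
  have hS : Suz.SzField F m := ⟨hm, hF⟩
  let e := Suz.szEquiv hS
  let Q : Sylow 2 ↥(Cfsg.Sz F m) := P.mapSurjective (f := e.symm.toMonoidHom) e.symm.surjective
  obtain ⟨hcard, -, -, hcen⟩ := Suz.sylow_props hS Q
  intro hP
  have htop : center ↥(Q : Subgroup ↥(Cfsg.Sz F m)) = ⊤ := eq_top_iff.2 fun a _ => mem_center_iff.2 fun b => by
    obtain ⟨a', ha, ha'⟩ := a.2
    obtain ⟨b', hb, hb'⟩ := b.2
    refine Subtype.ext ?_
    show (b : ↥(Cfsg.Sz F m)) * a = a * b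
    rw [← ha', ← hb', ← map_mul, ← map_mul]
    exact congrArg e.symm.toMonoidHom (congrArg Subtype.val (hP.is_comm.comm ⟨b', hb⟩ ⟨a', ha⟩))
  rw [htop, Subgroup.card_top, hcard, pow_two] at hcen
  have h2 : 2 ≤ 2 ^ (2 * m + 1) := le_self_pow₀ one_le_two (by omega)
  have := Nat.mul_le_mul_left (2 ^ (2 * m + 1)) h2
  omega

/-- Over a group with torus data and non-abelian Sylow 2-subgroup, the derived groups are not cyclic. -/
theorem not_isCyclic_derived {M : Type*} [Group M] [Finite M] {Q : Type*} [Group Q] (π : M →* Q)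
    (hπ : Function.Surjective π) (hQ : BenderCover.TorusSylow Q)
    (hna : ∀ P : Sylow 2 Q, ¬ IsMulCommutative ↥(P : Subgroup Q)) (S : Sylow 2 M) :
    ¬ IsCyclic ↥⁅(S : Subgroup M), (S : Subgroup M)⁆ := by
  haveI : Fact (Nat.Prime 2) := ⟨Nat.prime_two⟩
  haveI : Finite Q := Finite.of_surjective π hπ
  intro hc
  obtain ⟨Pb, W, hp, hi, hWP, hW2, hWc, -, hcomm, ⟨a, ha, b, hb, ha1, hb1, hab⟩, htr, -⟩ := hQ
  let P : Sylow 2 Q := hp.toSylow hi
  obtain ⟨g, hg⟩ := MulAction.exists_smul_eq Q (S.mapSurjective hπ) P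
  obtain ⟨h, hh⟩ := hπ g
  have hPS : Pb = ((S : Subgroup M).map (MulAut.conj h).toMonoidHom).map π := by
    show (P : Subgroup Q) = _
    rw [← hg, Sylow.coe_subgroup_smul, Sylow.coe_mapSurjective, ← hh]
    ext x
    simp only [mem_pointwise_smul_iff_inv_smul_mem, mem_map, MulEquiv.coe_toMonoidHom, ← map_inv,
      MulAut.smul_def, MulAut.conj_apply, inv_inv, exists_exists_and_eq_and]
    constructor
    · rintro ⟨y, hy, he⟩
      exact ⟨y, hy, by rw [map_mul, map_mul, he]; simp [mul_assoc]⟩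
    · rintro ⟨y, hy, rfl⟩
      exact ⟨y, hy, by simp [mul_assoc]⟩
  haveI hcT : IsCyclic ↥⁅Pb, Pb⁆ := by
    rw [hPS, ← map_commutator, ← map_commutator]
    haveI := hc
    haveI := isCyclic_of_surjective _ (MonoidHom.subgroupMap_surjective (MulAut.conj h).toMonoidHom
      ⁅(S : Subgroup M), (S : Subgroup M)⁆)
    exact isCyclic_of_surjective _ (MonoidHom.subgroupMap_surjective π _)
  obtain ⟨w, hw, hw1⟩ : ∃ w ∈ ⁅Pb, Pb⁆, w ≠ 1 := by
    by_contra hcon
    push Not at hcon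
    refine hna P ⟨⟨fun x y => Subtype.ext ?_⟩⟩
    exact commutatorElement_eq_one_iff_mul_comm.1 (hcon _ (commutator_mem_commutator x.2 y.2))
  have hle : ⁅Pb, Pb⁆ ≤ W := commutator_le.2 hcomm
  have hall : ∀ x ∈ W, x ≠ 1 → x ∈ ⁅Pb, Pb⁆ := by
    intro x hx hx1
    obtain ⟨k, hk⟩ := htr w (hle hw) x hx hw1 hx1
    have hcen : ∀ y ∈ W, y ∈ centralizer ((P : Subgroup Q) : Set Q) := fun y hy =>
      mem_centralizer_iff.2 fun z hz => (hWc y hy z hz).symm
    obtain ⟨n, hn, he⟩ := Sylow.conj_eq_normalizer_conj_of_mem_centralizer P w k⁻¹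
      (hcen w (hle hw)) (by rw [inv_inv, hk]; exact hcen x hx)
    rw [inv_inv, hk] at he
    have hN : n⁻¹ ∈ normalizer (Pb : Set Q) := inv_mem hn
    have hD : ⁅Pb, Pb⁆.map (MulAut.conj n⁻¹).toMonoidHom = ⁅Pb, Pb⁆ := by
      have h' : Pb.map (MulAut.conj n⁻¹).toMonoidHom = Pb := mem_normalizer_iff_map_conj_eq.1 hN
      rw [map_commutator, h']
    rw [← hD]
    exact ⟨w, hw, by simp [he]⟩
  have hord : ∀ x ∈ W, x ≠ 1 → orderOf x = 2 := fun x hx hx1 => orderOf_eq_prime (by rw [pow_two, hW2 x hx]) hx1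
  have := Invol.involution_unique_of_isCyclic (x := (⟨a, hall a ha ha1⟩ : ↥⁅Pb, Pb⁆)) (y := ⟨b, hall b hb hb1⟩)
    (by rw [orderOf_mk, hord a ha ha1]) (by rw [orderOf_mk, hord b hb hb1])
  exact hab (congrArg Subtype.val this)

end Cfsg.Agent.Invol.CentInt
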