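import Mathlib
import Cfsg.Prelude.Def_CaseTheorems
import Cfsg.Prelude.Def_Sz

/-!
# The three families of Bender's theorem
-/

set_option autoImplicit false

namespace Cfsg.Agent.Invol.CentInt

/-- `X` is `SL(2, q)`, `PSU(3, q)` (`q ≥ 4` even) or a Suzuki group, in the wording of Bender's theorem. -/
def IsBenderGrp (X : Type*) [Group X] : Prop :=
  (∃ (F : Type) (_ : Field F) (_ : Fintype F), CharP F 2 ∧ 4 ≤ Fintype.card F ∧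
      Nonempty (X ≃* Matrix.SpecialLinearGroup (Fin 2) F)) ∨
    (∃ (F : Type) (_ : Field F) (_ : Fintype F) (q : ℕ), Even q ∧ 4 ≤ q ∧ Fintype.card F = q ^ 2 ∧
      Nonempty (X ≃* Cfsg.PSU 3 F q)) ∨
    Cfsg.Lie.IsoSuzuki X

theorem IsBenderGrp.congr {X Y : Type*} [Group X] [Group Y] (h : IsBenderGrp X) (e : X ≃* Y) :
    IsBenderGrp Y := by
  rcases h with ⟨F, i, j, hc, h4, ⟨f⟩⟩ | ⟨F, i, j, q, hq, h4, hF, ⟨f⟩⟩ | ⟨F, i, j, m, hm, hF, ⟨f⟩⟩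
  · exact Or.inl ⟨F, i, j, hc, h4, ⟨e.symm.trans f⟩⟩
  · exact Or.inr (Or.inl ⟨F, i, j, q, hq, h4, hF, ⟨e.symm.trans f⟩⟩)
  · exact Or.inr (Or.inr ⟨F, i, j, m, hm, hF, ⟨e.symm.trans f⟩⟩)

end Cfsg.Agent.Invol.CentInt
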