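import Cfsg.Prelude.Def_Amalgam
import Cfsg.Agent.Lib.Invol.CentInt.BenderGrp
import Cfsg.Agent.Lib.Invol.CentInt.CoverDerived
import Cfsg.Agent.Lib.Invol.BenderCover.Main
import Cfsg.Agent.Lib.Invol.RegularInversionFamilies
import Cfsg.Agent.Lib.Grp.CTwoAb.Cover
import Cfsg.Agent.Lib.Classical.UnitMultMain
import Cfsg.Agent.Lib.Classical.UnitCenter
import Cfsg.Agent.Lib.Fus.UnitTransvection
import Cfsg.Agent.Lib.Lie.Sz.SylowLie
import Cfsg.Agent.S0252
import Cfsg.Agent.S0253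
import Cfsg.Agent.S2089
import Cfsg.Agent.S2111

/-!
# Central covers of the groups of Bender's theorem

`M` is generated by its 2-elements and `M / D` is one of Bender's groups for a central `D`.  If the Sylow
2-subgroups are not abelian then `M` is a central 2-group times `SL(2, 5)`, a Suzuki or unitary group, or
a cover of `Sz(8)`.
-/

set_option autoImplicit false
set_option linter.style.haveILetI false

open Subgroup
open scoped commutatorElement

namespace Cfsg.Agent.Invol.CentInt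

universe u w

/-- Two perfect central extensions whose kernels are as large as the multiplier are isomorphic. -/
theorem stem_iso {K : Type u} [Group K] [Finite K] {Γ : Type} [Group Γ] [Finite Γ] {X : Type} [Group X]
    [Finite X] {A : Type w} [CommGroup A] [Finite A] (hA : Cfsg.HasSchurMultiplier X A) (π : K →* X)
    (hπ : Function.Surjective π) (hc : π.ker ≤ center K) (hp : commutator K = ⊤)
    (hk : Nat.card π.ker = Nat.card A) (τ : Γ →* X) (hτ : Function.Surjective τ) (hc' : τ.ker ≤ center Γ)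
    (hp' : commutator Γ = ⊤) (hk' : Nat.card τ.ker = Nat.card A) : Nonempty (K ≃* Γ) := by
  haveI : Small.{0} K := inferInstance
  let E : Shrink.{0} K ≃* K := Shrink.mulEquiv
  haveI : Finite (Shrink.{0} K) := Finite.of_equiv K E.symm.toEquiv
  set σ : Shrink.{0} K →* X := π.comp E.toMonoidHom with hσ
  have h1 : Cfsg.IsStemExtension σ := by
    refine ⟨hπ.comp E.surjective, fun x hx => mem_center_iff.2 fun y => E.injective ?_, fun x _ => ?_⟩
    · rw [map_mul, map_mul]
      exact mem_center_iff.1 (hc hx) (E y)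
    · haveI : Group.IsPerfect K := ⟨hp⟩
      haveI : Group.IsPerfect (Shrink.{0} K) :=
        Group.IsPerfect.ofSurjective (f := E.symm.toMonoidHom) E.symm.surjective
      rw [‹Group.IsPerfect (Shrink.{0} K)›.commutator_eq_top]
      trivial
  have h2 : Cfsg.IsStemExtension τ := ⟨hτ, hc', fun x _ => hp' ▸ mem_top x⟩
  have hiso : ∀ (Δ : Type) [Group Δ] [Finite Δ] (ρ : Δ →* X), Cfsg.IsStemExtension ρ →
      Nat.card ρ.ker = Nat.card A → Nonempty (ρ.ker ≃* A) := fun Δ _ _ ρ hρ he => by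
    obtain ⟨f, hf⟩ := hA.2 Δ ρ hρ
    exact ⟨(MulEquiv.ofBijective f ((Nat.bijective_iff_surjective_and_card _).2 ⟨hf, he.symm⟩)).symm⟩
  have e1 : Nat.card σ.ker = Nat.card A :=
    (Nat.card_congr (E.toEquiv.subtypeEquiv fun _ => Iff.rfl)).trans hk
  have hcop : Nat.Coprime (Nat.card (Abelianization X)) (Nat.card A) := by
    haveI : Group.IsPerfect Γ := ⟨hp'⟩
    haveI := Group.IsPerfect.ofSurjective (f := τ) hτ
    have h : Nat.card (Abelianization X) = 1 := by
      show (commutator X).index = 1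
      rw [‹Group.IsPerfect X›.commutator_eq_top, index_top]
    rw [h]
    exact Nat.coprime_one_left _
  obtain ⟨g, -⟩ := (S3974.result hA).2 hcop (Shrink.{0} K) Γ σ τ h1 h2 (hiso _ σ h1 e1) (hiso _ τ h2 hk')
  exact ⟨E.symm.trans g⟩

/-- A 2-subgroup of `SL(2, q)`, `q` even, is abelian. -/
theorem sl_two_comm {F : Type*} [Field F] [Fintype F] [CharP F 2]
    {P : Subgroup (Matrix.SpecialLinearGroup (Fin 2) F)} (hP : IsPGroup 2 P) :
    ∀ x ∈ P, ∀ y ∈ P, x * y = y * x := by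
  classical
  haveI : Fact (Nat.Prime 2) := ⟨Nat.prime_two⟩
  obtain ⟨W, hW⟩ : ∃ W : Subgroup (Matrix.SpecialLinearGroup (Fin 2) F), ∀ g, g ∈ W ↔
      ∃ t : F, g = Grp.SL2.up t :=
    ⟨{ carrier := {g | ∃ t : F, g = Grp.SL2.up t}
       one_mem' := ⟨0, Grp.SL2.up_zero.symm⟩
       mul_mem' := by rintro _ _ ⟨s, rfl⟩ ⟨t, rfl⟩; exact ⟨s + t, Grp.SL2.up_mul s t⟩
       inv_mem' := by
        rintro _ ⟨s, rfl⟩
        exact ⟨-s, inv_eq_of_mul_eq_one_right (by rw [Grp.SL2.up_mul, add_neg_cancel, Grp.SL2.up_zero])⟩ },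
      fun _ => Iff.rfl⟩
  have hcard : Nat.card ↥W = Fintype.card F := by
    rw [← Nat.card_eq_fintype_card (α := F)]
    refine (Nat.card_eq_of_bijective (fun t : F => (⟨Grp.SL2.up t, (hW _).2 ⟨t, rfl⟩⟩ : ↥W))
      ⟨fun s t h => ?_, fun g => ?_⟩).symm
    · simpa [Grp.SL2.up] using congrFun (congrFun (congrArg Subtype.val (congrArg Subtype.val h)) 0) 1
    · obtain ⟨t, ht⟩ := (hW g).1 g.2
      exact ⟨t, Subtype.ext ht.symm⟩
  obtain ⟨n, -, hn⟩ := FiniteField.card F 2
  have hidx : ¬ 2 ∣ W.index := by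
    have h1 := W.card_mul_index
    rw [hcard, Lie.SympWreath.natCard_SL2] at h1
    rw [Nat.eq_of_mul_eq_mul_left Fintype.card_pos h1]
    have h2 : Even (Fintype.card F ^ 2) := by
      rw [hn, ← pow_mul]; exact Nat.even_pow.2 ⟨even_two, by positivity⟩
    exact fun h => (Nat.not_even_iff_odd.2 (Nat.Even.sub_odd (Nat.one_le_pow _ _ Fintype.card_pos) h2
      odd_one)) (even_iff_two_dvd.2 h)
  let T := (IsPGroup.of_card (hcard.trans hn) : IsPGroup 2 W).toSylow hidx
  obtain ⟨Q, hQ⟩ := hP.exists_le_sylow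
  obtain ⟨g, rfl⟩ := MulAction.exists_smul_eq (Matrix.SpecialLinearGroup (Fin 2) F) T Q
  intro x hx y hy
  have h1 := hQ hx
  have h2 := hQ hy
  rw [Sylow.coe_subgroup_smul, mem_pointwise_smul_iff_inv_smul_mem] at h1 h2
  obtain ⟨s, hs⟩ := (hW _).1 h1
  obtain ⟨t, ht⟩ := (hW _).1 h2
  apply ((MulAut.conj g)⁻¹).injective
  rw [map_mul, map_mul]
  change ((MulAut.conj g)⁻¹ • x) * ((MulAut.conj g)⁻¹ • y) = ((MulAut.conj g)⁻¹ • y) * ((MulAut.conj g)⁻¹ • x)
  rw [hs, ht]
  exact (Grp.SL2.commute_up s t).eq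

variable {M : Type u} [Group M] [Finite M]

omit [Finite M] in
/-- The part of 2-power order of a central subgroup. -/
theorem exists_twoPart (D : Subgroup M) (hD : D ≤ center M) :
    ∃ A : Subgroup M, A ≤ D ∧ IsPGroup 2 A ∧ ∀ x ∈ D, ∀ k : ℕ, x ^ 2 ^ k = 1 → x ∈ A := by
  refine ⟨{ carrier := {x | x ∈ D ∧ ∃ k : ℕ, x ^ 2 ^ k = 1}
            one_mem' := ⟨one_mem D, 0, by simp⟩
            mul_mem' := ?_
            inv_mem' := ?_ }, fun x hx => hx.1, ?_, fun x hx k hk => ⟨hx, k, hk⟩⟩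
  · rintro x y ⟨hx, i, hi⟩ ⟨hy, j, hj⟩
    refine ⟨mul_mem hx hy, i + j, ?_⟩
    have hc : Commute x y := (mem_center_iff.1 (hD hx) y).symm
    rw [hc.mul_pow, pow_add, pow_mul x, hi, one_pow, one_mul, mul_comm, pow_mul y, hj, one_pow]
  · rintro x ⟨hx, i, hi⟩
    exact ⟨inv_mem hx, i, by rw [inv_pow, hi, inv_one]⟩
  · rintro ⟨x, hx, k, hk⟩
    exact ⟨k, Subtype.ext hk⟩

/-- The derived group of a central extension of a simple group, its centre and the central 2-group. -/
theorem exists_core (D : Subgroup M) [D.Normal] (hD : D ≤ center M)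
    (hgen : Cfsg.pElementClosure 2 (⊤ : Subgroup M) = ⊤) (hs : IsSimpleGroup (M ⧸ D))
    (hna : ∃ a b : M ⧸ D, a * b ≠ b * a) :
    ∃ A L : Subgroup M, A ≤ center M ∧ A ≤ D ∧ IsPGroup 2 A ∧ Group.IsPerfect L ∧ A ⊔ L = ⊤ ∧
      L.Normal ∧ center L = D.subgroupOf L ∧
      Nonempty (L ⧸ center L ≃* M ⧸ D) := by
  haveI : Fact (Nat.Prime 2) := ⟨Nat.prime_two⟩
  haveI := hs
  have hperf : commutator (M ⧸ D) = ⊤ := by
    rcases IsSimpleGroup.eq_bot_or_eq_top_of_normal (commutator (M ⧸ D)) inferInstance with h | h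
    · obtain ⟨a, b, hab⟩ := hna
      refine absurd ?_ hab
      have h1 : ⁅a, b⁆ ∈ commutator (M ⧸ D) := commutator_mem_commutator (mem_top a) (mem_top b)
      rw [h, mem_bot, commutatorElement_eq_one_iff_mul_comm] at h1
      exact h1
    · exact h
  set π := QuotientGroup.mk' D with hπdef
  have hπs : Function.Surjective π := QuotientGroup.mk'_surjective D
  set L := commutator M with hL
  have hmapL : L.map π = ⊤ := by
    rw [hL, _root_.commutator_def, map_commutator, map_top_of_surjective π hπs,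
      ← _root_.commutator_def, hperf]
  have hLD : ∀ m : M, ∃ l ∈ L, l⁻¹ * m ∈ D := fun m => by
    obtain ⟨l, hl, hlm⟩ := (hmapL ▸ mem_top (π m) : π m ∈ L.map π)
    exact ⟨l, hl, QuotientGroup.eq.1 hlm⟩
  have hLperf : Group.IsPerfect L := by
    refine ⟨eq_top_iff.2 ?_⟩
    have hle : commutator M ≤ (commutator L).map L.subtype := by
      rw [_root_.commutator_def L, map_commutator, ← MonoidHom.range_eq_map, range_subtype]
      rw [_root_.commutator_def M, commutator_le]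
      intro a _ b _
      obtain ⟨l, hl, hla⟩ := hLD a
      obtain ⟨r, hr, hrb⟩ := hLD b
      have e : ⁅a, b⁆ = ⁅l, r⁆ := by
        have h1 := mem_center_iff.1 (hD hla)
        have h2 := mem_center_iff.1 (hD hrb)
        obtain ⟨u, hu⟩ : ∃ u, u = l⁻¹ * a := ⟨_, rfl⟩
        obtain ⟨v, hv⟩ : ∃ v, v = r⁻¹ * b := ⟨_, rfl⟩
        rw [← hu] at h1; rw [← hv] at h2
        rw [show a = l * u by rw [hu, mul_inv_cancel_left], show b = r * v by rw [hv, mul_inv_cancel_left]]
        have c1 : ∀ g, Commute u g := fun g => (h1 g).symm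
        have c2 : ∀ g, Commute v g := fun g => (h2 g).symm
        simp only [commutatorElement_def, mul_inv_rev]
        calc l * u * (r * v) * (u⁻¹ * l⁻¹) * (v⁻¹ * r⁻¹)
            = l * (u * (r * v)) * u⁻¹ * l⁻¹ * v⁻¹ * r⁻¹ := by group
          _ = l * r * v * l⁻¹ * v⁻¹ * r⁻¹ := by rw [(c1 _).eq]; group
          _ = l * r * (v * l⁻¹) * v⁻¹ * r⁻¹ := by group
          _ = _ := by rw [(c2 _).eq]; group
      rw [e]
      exact commutator_mem_commutator hl hr
    intro x _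
    obtain ⟨y, hy, hyx⟩ := hle x.2
    rwa [show y = x from Subtype.ext hyx] at hy
  set σ : L →* M ⧸ D := π.comp L.subtype with hσ
  have hσs : Function.Surjective σ := fun z => by
    obtain ⟨l, hl, hlz⟩ := (hmapL ▸ mem_top z : z ∈ L.map π)
    exact ⟨⟨l, hl⟩, hlz⟩
  have hker : σ.ker = D.subgroupOf L := by
    ext x
    rw [MonoidHom.mem_ker, mem_subgroupOf]
    exact QuotientGroup.eq_one_iff _
  have hZ : center L = D.subgroupOf L := by
    refine le_antisymm (fun x hx => ?_) fun x hx =>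
      mem_center_iff.2 fun y => Subtype.ext (mem_center_iff.1 (hD hx) y)
    have hcen : σ x ∈ center (M ⧸ D) := mem_center_iff.2 fun y => by
      obtain ⟨y, rfl⟩ := hσs y
      rw [← map_mul, ← map_mul, mem_center_iff.1 hx y]
    rcases IsSimpleGroup.eq_bot_or_eq_top_of_normal (center (M ⧸ D)) inferInstance with h | h
    · rw [h, mem_bot] at hcen
      rw [← hker]
      exact hcen
    · obtain ⟨a, b, hab⟩ := hna
      exact absurd (mem_center_iff.1 (h ▸ mem_top b : b ∈ center (M ⧸ D)) a) hab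
  obtain ⟨A, hAD, hA2, hAmem⟩ := exists_twoPart D hD
  -- `M / L` is a 2-group
  have hquot : ∀ q : M ⧸ L, ∃ k : ℕ, q ^ 2 ^ k = 1 := by
    intro q
    obtain ⟨m, rfl⟩ := QuotientGroup.mk'_surjective L q
    have hm : m ∈ Cfsg.pElementClosure 2 (⊤ : Subgroup M) := by rw [hgen]; exact mem_top m
    refine closure_induction (p := fun x _ => ∃ k : ℕ, QuotientGroup.mk' L x ^ 2 ^ k = 1) ?_ ?_ ?_ ?_ hm
    · rintro x ⟨-, k, hk⟩
      exact ⟨k, by rw [← map_pow, ← hk, pow_orderOf_eq_one, map_one]⟩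
    · exact ⟨0, by simp⟩
    · rintro x y - - ⟨i, hi⟩ ⟨j, hj⟩
      refine ⟨i + j, ?_⟩
      have hc : Commute (QuotientGroup.mk' L x) (QuotientGroup.mk' L y) := by
        show _ * _ = _ * _
        rw [← map_mul, ← map_mul]
        refine QuotientGroup.eq.2 ?_
        have := commutator_mem_commutator (G := M) (mem_top y⁻¹) (mem_top x⁻¹)
        rw [← _root_.commutator_def] at this
        convert this using 1
        simp [commutatorElement_def, mul_assoc]
      rw [map_mul, hc.mul_pow, pow_add, pow_mul, hi, one_pow, one_mul, mul_comm, pow_mul, hj, one_pow]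
    · rintro x - ⟨i, hi⟩
      exact ⟨i, by rw [map_inv, inv_pow, hi, inv_one]⟩
  refine ⟨A, L, hAD.trans hD, hAD, hA2, hLperf, eq_top_iff.2 fun m _ => ?_, inferInstance, hZ,
    ⟨(QuotientGroup.quotientMulEquivOfEq (hZ.trans hker.symm)).trans
      (QuotientGroup.quotientKerEquivOfSurjective σ hσs)⟩⟩
  obtain ⟨l, hl, hd⟩ := hLD m
  obtain ⟨d, rfl⟩ : ∃ d, m = l * d := ⟨l⁻¹ * m, (mul_inv_cancel_left l m).symm⟩
  rw [inv_mul_cancel_left] at hd
  refine mul_mem (mem_sup_right hl) ?_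
  obtain ⟨a, o, ho, hord⟩ := Nat.exists_eq_two_pow_mul_odd (orderOf_pos d).ne'
  have h1 : d ^ o ∈ A := hAmem _ (pow_mem hd o) a (by
    rw [← pow_mul, mul_comm, ← hord, pow_orderOf_eq_one])
  have h2 : d ^ 2 ^ a ∈ L := by
    obtain ⟨k, hk⟩ := hquot (QuotientGroup.mk' L (d ^ 2 ^ a))
    rw [← QuotientGroup.eq_one_iff, ← QuotientGroup.mk'_apply, ← orderOf_eq_one_iff]
    refine Nat.eq_one_of_dvd_coprimes (Nat.Coprime.pow_left k (Nat.coprime_two_left.2 ho))
      (orderOf_dvd_of_pow_eq_one hk) (orderOf_dvd_of_pow_eq_one ?_)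
    rw [← map_pow, ← pow_mul, ← hord, pow_orderOf_eq_one, map_one]
  have hco : Nat.Coprime o (2 ^ a) := Nat.Coprime.pow_right a (Nat.coprime_two_right.2 ho)
  have e := Nat.gcd_eq_gcd_ab o (2 ^ a)
  rw [hco.gcd_eq_one] at e
  rw [← zpow_one d, show (1 : ℤ) = _ from e, zpow_add, zpow_mul, zpow_mul, zpow_natCast, zpow_natCast]
  exact mul_mem (zpow_mem (mem_sup_left h1) _) (zpow_mem (mem_sup_right h2) _)

theorem IsBenderGrp.not_comm {X : Type*} [Group X] (h : IsBenderGrp X) : ∃ a b : X, a * b ≠ b * a := by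
  obtain ⟨P, W, -, -, -, -, -, -, -, ⟨a, ha, b, hb, ha1, hb1, hab⟩, hconj, -⟩ :=
    BenderCover.torusSylow_bender h
  obtain ⟨g, hg⟩ := hconj a ha b hb ha1 hb1
  exact ⟨g, a, fun e => hab (by rw [← hg, e, mul_inv_cancel_right])⟩

theorem IsBenderGrp.isSimple {X : Type*} [Group X] (h : IsBenderGrp X) : IsSimpleGroup X := by
  rcases h with ⟨F, i, j, hc, h4, ⟨e⟩⟩ | ⟨F, i, j, q, hq, h4, hF, ⟨e⟩⟩ | ⟨F, i, j, m, hm, hF, ⟨e⟩⟩
  · haveI := hc
    haveI := Classical.PSL_isSimple (F := F) le_rfl fun _ => h4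
    exact (e.trans ((QuotientGroup.quotientBot).symm.trans
      (QuotientGroup.quotientMulEquivOfEq RegInv.center_SL2_char_two.symm))).isSimpleGroup
  · haveI := Fus.UnitTv.isSimpleGroup_psu hF (le_refl 3) (fun h => by omega)
    exact e.isSimpleGroup
  · haveI := Suz.lie_isSimple (F := F) (m := m) ⟨hm, hF⟩
    exact e.isSimpleGroup

/-- Central covers of Bender's groups with a non-abelian Sylow 2-subgroup. -/
theorem cover (D : Subgroup M) [D.Normal] (hD : D ≤ center M)
    (hgen : Cfsg.pElementClosure 2 (⊤ : Subgroup M) = ⊤)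
    (hS : ∀ S : Sylow 2 M, ¬ IsMulCommutative ↥(S : Subgroup M)) (h : IsBenderGrp (M ⧸ D)) :
    ∃ A L : Subgroup M, A ≤ center M ∧ IsPGroup 2 A ∧ Group.IsPerfect L ∧ A ⊔ L = ⊤ ∧
      ((Nonempty (L ≃* Matrix.SpecialLinearGroup (Fin 2) (ZMod 5)) ∧
          ∀ S : Sylow 2 M, Nat.card (⁅(S : Subgroup M), (S : Subgroup M)⁆ : Subgroup M) = 2) ∨
        ((∀ S : Sylow 2 M, ¬ IsCyclic (⁅(S : Subgroup M), (S : Subgroup M)⁆ : Subgroup M)) ∧
        ((A ⊓ L = ⊥ ∧ Odd (Nat.card (center L)) ∧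
          ((∃ (m : ℕ) (F : Type) (_ : Field F) (_ : Fintype F), 1 ≤ m ∧ Fintype.card F = 2 ^ (2 * m + 1) ∧
              Nonempty (↥L ≃* ↥(Cfsg.Lie.Sz F (2 ^ (m + 1))))) ∨
            (∃ (n : ℕ) (F : Type) (_ : Field F) (_ : Fintype F), 2 ≤ n ∧ Fintype.card F = 4 ^ n ∧
              (Nonempty (↥L ≃* Cfsg.PSU 3 F (2 ^ n)) ∨ Nonempty (↥L ≃* ↥(Cfsg.SU 3 F (2 ^ n))))))) ∨
        (center ↥L ≠ ⊥ ∧ ∃ (F : Type) (_ : Field F) (_ : Fintype F), Fintype.card F = 8 ∧
          Nonempty (↥L ⧸ center ↥L ≃* ↥(Cfsg.Lie.Sz F 4)))))) := by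
  haveI : Fact (Nat.Prime 2) := ⟨Nat.prime_two⟩
  obtain ⟨A, L, hAc, hAD, hA, hperf, hsup, hLn, hZ, ⟨e₀⟩⟩ :=
    exists_core D hD hgen h.isSimple h.not_comm
  refine ⟨A, L, hAc, hA, hperf, hsup, ?_⟩
  haveI := hLn
  haveI : Small.{0} L := inferInstance
  have hZc : ∀ x ∈ A ⊓ L, ∃ y ∈ center L, (y : M) = x := fun x hx =>
    ⟨⟨x, hx.2⟩, by rw [hZ]; exact hAD hx.1, rfl⟩
  have hodd : Odd (Nat.card (center L)) → A ⊓ L = ⊥ := by
    intro ho
    refine (eq_bot_iff_forall _).2 fun x hx => ?_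
    obtain ⟨y, hy, rfl⟩ := hZc x hx
    obtain ⟨k, hk⟩ := hA ⟨_, hx.1⟩
    have h1 : (y : L) ^ 2 ^ k = 1 := Subtype.ext (by simpa using congrArg Subtype.val hk)
    rw [orderOf_eq_one_iff.1 (Nat.eq_one_of_dvd_coprimes (Nat.Coprime.pow_left k (Nat.coprime_two_left.2 ho))
      (orderOf_dvd_of_pow_eq_one h1) (Subgroup.orderOf_dvd_natCard _ hy)), coe_one]
  rcases h with ⟨F, iF, jF, hc, h4, ⟨e⟩⟩ | ⟨F, iF, jF, q, hq, h4, hF, ⟨e⟩⟩ | ⟨F, iF, jF, m, hm, hF, ⟨e⟩⟩
  · left
    haveI := hc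
    set ρ := (e₀.trans e).toMonoidHom.comp (QuotientGroup.mk' (center L)) with hρ
    -- commutators of 2-elements of `L` are central
    have hcomm : ∀ P : Subgroup M, IsPGroup 2 P → P ≤ L → ∀ x ∈ P, ∀ y ∈ P,
        ∃ z ∈ center L, (z : M) = ⁅x, y⁆ := by
      intro P hP hPL x hx y hy
      refine ⟨⁅(⟨x, hPL hx⟩ : L), ⟨y, hPL hy⟩⁆, ?_, rfl⟩
      have hP' : IsPGroup 2 ((P.subgroupOf L).map ρ) :=
        (hP.comap_of_injective L.subtype L.subtype_injective).map ρ
      have h1 : ρ ⁅(⟨x, hPL hx⟩ : L), ⟨y, hPL hy⟩⁆ = 1 := by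
        rw [map_commutatorElement, commutatorElement_eq_one_iff_mul_comm]
        exact sl_two_comm hP' _ (mem_map_of_mem ρ (show (⟨x, hPL hx⟩ : L) ∈ P.subgroupOf L from hx))
          _ (mem_map_of_mem ρ (show (⟨y, hPL hy⟩ : L) ∈ P.subgroupOf L from hy))
      rw [hρ, MonoidHom.comp_apply, MulEquiv.coe_toMonoidHom, EmbeddingLike.map_eq_one_iff] at h1
      exact (QuotientGroup.eq_one_iff _).1 h1
    -- the derived groups of the Sylow 2-subgroups
    have hder : ∀ S : Sylow 2 M, ⁅(S : Subgroup M), (S : Subgroup M)⁆ ≤ (center L).map L.subtype := by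
      intro S
      rw [commutator_le]
      intro x hx y hy
      have hAS : A ≤ (S : Subgroup M) := by
        have hn : A ≤ normalizer ((S : Subgroup M) : Set M) := fun a ha => mem_normalizer_iff.2 fun s => by
          rw [← mem_center_iff.1 (hAc ha) s, mul_inv_cancel_right]
        exact (S.3 (hA.to_sup_of_normal_right' S.isPGroup' hn) le_sup_right) ▸ le_sup_left
      have hdec : ∀ s ∈ (S : Subgroup M), ∃ l ∈ (S : Subgroup M) ⊓ L, ∃ a ∈ A, s = l * a := by
        intro s hs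
        obtain ⟨a, ha, l, hl, rfl⟩ := Subgroup.mem_sup_of_normal_right.1 (hsup ▸ mem_top s : s ∈ A ⊔ L)
        refine ⟨l, ⟨?_, hl⟩, a, ha, (mem_center_iff.1 (hAc ha) l).symm⟩
        have h9 := mul_mem (inv_mem (hAS ha)) hs
        rwa [inv_mul_cancel_left] at h9
      obtain ⟨l, hl, a, ha, rfl⟩ := hdec x hx
      obtain ⟨r, hr, b, hb, rfl⟩ := hdec y hy
      obtain ⟨z, hz, hzv⟩ := hcomm _ (S.isPGroup'.to_le inf_le_left) inf_le_right l hl r hr
      refine ⟨z, hz, ?_⟩
      have c1 : ∀ g, Commute a g := fun g => (mem_center_iff.1 (hAc ha) g).symm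
      have c2 : ∀ g, Commute b g := fun g => (mem_center_iff.1 (hAc hb) g).symm
      rw [L.coe_subtype, hzv]
      simp only [commutatorElement_def, mul_inv_rev]
      symm
      calc l * a * (r * b) * (a⁻¹ * l⁻¹) * (b⁻¹ * r⁻¹)
          = l * (a * (r * b)) * a⁻¹ * l⁻¹ * b⁻¹ * r⁻¹ := by group
        _ = l * r * b * l⁻¹ * b⁻¹ * r⁻¹ := by rw [(c1 _).eq]; group
        _ = l * r * (b * l⁻¹) * b⁻¹ * r⁻¹ := by group
        _ = _ := by rw [(c2 _).eq]; group
    obtain ⟨S₀⟩ : Nonempty (Sylow 2 M) := inferInstance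
    have hSne : ∀ S : Sylow 2 M, ⁅(S : Subgroup M), (S : Subgroup M)⁆ ≠ ⊥ := fun S e => hS S
      ⟨⟨fun a b => Subtype.ext (commutatorElement_eq_one_iff_mul_comm.1
        (mem_bot.1 (e ▸ commutator_mem_commutator a.2 b.2)))⟩⟩
    have hne : center L ≠ ⊥ := fun e => hSne S₀ (le_bot_iff.1 ((hder S₀).trans (by rw [e, Subgroup.map_bot])))
    -- so `q = 4`
    have hq : Cfsg.IsQuasisimple L := ⟨hperf, by
      haveI := (show IsBenderGrp (M ⧸ D) from Or.inl ⟨F, iF, jF, hc, h4, ⟨e⟩⟩).isSimple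
      exact e₀.isSimpleGroup⟩
    let eP : L ⧸ center L ≃* Matrix.ProjectiveSpecialLinearGroup (Fin 2) F :=
      (e₀.trans e).trans ((QuotientGroup.quotientBot).symm.trans
        (QuotientGroup.quotientMulEquivOfEq RegInv.center_SL2_char_two.symm))
    have hF4 : Fintype.card F = 4 := by
      by_contra hne4
      have h2q : 2 ∣ Fintype.card F := by
        obtain ⟨k, -, hk⟩ := FiniteField.card F 2
        exact hk ▸ dvd_pow_self 2 k.ne_zero
      have hm := S2086.result (F := F) rfl 2 le_rfl (fun _ => h4) (by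
        simp only [Set.mem_insert_iff, Set.mem_singleton_iff, Prod.mk.injEq]
        rintro (⟨-, h⟩ | ⟨-, h⟩ | ⟨h, -⟩ | ⟨h, -⟩ | ⟨h, -⟩) <;> omega)
      have h1 := Block.CpQuot.card_center_dvd hm hq eP
      rw [Nat.card_congr Multiplicative.toAdd, Nat.card_zmod,
        show Nat.gcd 2 (Fintype.card F - 1) = 1 from
          (Nat.coprime_two_left.2 (Nat.odd_iff.2 (by omega))).gcd_eq_one, Nat.dvd_one, card_eq_one] at h1
      exact hne h1
    haveI : Fact (Nat.Prime 5) := ⟨by norm_num⟩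
    obtain ⟨e4⟩ := S0252.result (F := F) hF4
    obtain ⟨e5⟩ := S0253.result (F := ZMod 5) (ZMod.card 5)
    have e' : L ⧸ center L ≃* Matrix.ProjectiveSpecialLinearGroup (Fin 2) (ZMod 5) :=
      eP.trans (e4.trans e5.symm)
    refine ⟨Grp.CTwoAb.nonempty_SLTwo hq (by rw [ZMod.card]; norm_num) (by rw [ZMod.card]) hne e', fun S => ?_⟩
    have hm5 := S2086.result (F := ZMod 5) (ZMod.card 5) 2 le_rfl (fun _ => by norm_num) (by
      simp only [Set.mem_insert_iff, Set.mem_singleton_iff, Prod.mk.injEq]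
      norm_num)
    have h2 : Nat.card (center L) = 2 := by
      have h1 := Block.CpQuot.card_center_dvd hm5 hq e'
      rw [Nat.card_congr Multiplicative.toAdd, Nat.card_zmod, show Nat.gcd 2 (5 - 1) = 2 from rfl] at h1
      exact ((Nat.dvd_prime Nat.prime_two).1 h1).resolve_left fun h => hne (card_eq_one.1 h)
    refine ((Nat.dvd_prime Nat.prime_two).1 ?_).resolve_left fun h => hSne S (card_eq_one.1 h)
    have := card_dvd_of_le (hder S)
    rwa [card_map_of_injective L.subtype_injective, h2] at this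
  · obtain ⟨n, hn⟩ : ∃ n : ℕ, q = 2 ^ n := by
      have h2 : (2 : ℕ) ∣ Fintype.card F := by
        rw [hF]; exact dvd_pow (even_iff_two_dvd.1 hq) two_ne_zero
      obtain ⟨p, -, k, hp, hcard⟩ := FiniteField.card' F
      rw [hcard] at h2
      have hp2 := (Nat.prime_dvd_prime_iff_eq Nat.prime_two hp).1 (Nat.prime_two.dvd_of_dvd_pow h2)
      obtain ⟨n, -, hn⟩ := (Nat.dvd_prime_pow Nat.prime_two).1
        (show q ∣ 2 ^ (k : ℕ) by rw [hp2, ← hcard, hF]; exact dvd_pow_self q two_ne_zero)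
      exact ⟨n, hn⟩
    have hn2 : 2 ≤ n := by
      by_contra hlt
      interval_cases n <;> omega
    have hm := S2089.result (F := F) 3 q hF le_rfl (fun h => by omega) (by
      simp only [Set.mem_insert_iff, Set.mem_singleton_iff, Prod.mk.injEq]
      rintro (⟨h, -⟩ | ⟨h, -⟩ | ⟨h, -⟩) <;> omega)
    set d := Nat.gcd 3 (q + 1) with hd
    let π : L →* Cfsg.PSU 3 F q := (e₀.trans e).toMonoidHom.comp (QuotientGroup.mk' (center L))
    have hπker : π.ker = center L := by
      ext x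
      simp [π, MonoidHom.mem_ker]
    have hπs : Function.Surjective π := (e₀.trans e).surjective.comp (QuotientGroup.mk'_surjective _)
    have hdvd : Nat.card (center L) ∣ d := by
      have h1 := Block.CpQuot.card_ker_dvd hm π hπs hπker.le hperf
      rwa [hπker, Nat.card_congr Multiplicative.toAdd, Nat.card_zmod] at h1
    have hd3 : d ∣ 3 := Nat.gcd_dvd_left _ _
    have hder : ∀ S : Sylow 2 M, ¬ IsCyclic (⁅(S : Subgroup M), (S : Subgroup M)⁆ : Subgroup M) :=
      not_isCyclic_derived (e.toMonoidHom.comp (QuotientGroup.mk' D))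
        (e.surjective.comp (QuotientGroup.mk'_surjective D))
        (BenderCover.torusSylow_psu hF hq h4) (psu_sylow_nonabelian hF hn (by omega))
    refine Or.inr ⟨hder, Or.inl ?_⟩
    refine ⟨hodd (Odd.of_dvd_nat (by decide) (hdvd.trans hd3)), Odd.of_dvd_nat (by decide) (hdvd.trans hd3), Or.inr ⟨n, F, iF, jF, hn2,
      by rw [hF, hn, ← pow_mul, mul_comm, pow_mul]; norm_num, ?_⟩⟩
    subst hn
    rcases (Nat.dvd_prime Nat.prime_three).1 (hdvd.trans hd3) with h1 | h3
    · exact Or.inl ⟨(QuotientGroup.quotientBot.symm.trans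
        (QuotientGroup.quotientMulEquivOfEq (card_eq_one.1 h1).symm)).trans (e₀.trans e)⟩
    · right
      have hd' : d = 3 := Nat.dvd_antisymm hd3 (h3 ▸ hdvd)
      have hA' : Nat.card (Multiplicative (ZMod d)) = 3 := by
        rw [Nat.card_congr Multiplicative.toAdd, Nat.card_zmod, hd']
      haveI : NeZero d := ⟨by omega⟩
      refine stem_iso hm π hπs hπker.le hperf.commutator_eq_top (by rw [hπker, h3, hA'])
        (QuotientGroup.mk' (center (Cfsg.SU 3 F (2 ^ n)))) (QuotientGroup.mk'_surjective _)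
        (QuotientGroup.ker_mk' _).le
        (Classical.UnitMult.perfect_SU hF le_rfl (fun h => by omega)) ?_
      rw [QuotientGroup.ker_mk', Classical.natCard_center_SU hF (by norm_num), hA']
      exact hd'
  · right
    refine ⟨not_isCyclic_derived (e.toMonoidHom.comp (QuotientGroup.mk' D))
        (e.surjective.comp (QuotientGroup.mk'_surjective D))
        (BenderCover.torusSylow_suzuki ⟨F, iF, jF, m, hm, hF, ⟨MulEquiv.refl _⟩⟩) (suzuki_sylow_nonabelian hm hF), ?_⟩
    let π : L →* Cfsg.Lie.Sz F (2 ^ (m + 1)) := (e₀.trans e).toMonoidHom.comp (QuotientGroup.mk' (center L))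
    by_cases hZ1 : center L = ⊥
    · left
      exact ⟨hodd (by rw [hZ1, card_bot]; exact odd_one), by rw [hZ1, card_bot]; exact odd_one, Or.inl ⟨m, F, iF, jF, hm, hF,
        ⟨(QuotientGroup.quotientBot.symm.trans (QuotientGroup.quotientMulEquivOfEq hZ1.symm)).trans
          (e₀.trans e)⟩⟩⟩
    · right
      obtain rfl : m = 1 := by
        by_contra hm1
        have hmul := S2111.result (F := F) (m := m) (by omega) hF
        have hπker : π.ker = center L := by
          ext x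
          simp [π, MonoidHom.mem_ker]
        have h1 := Block.CpQuot.card_ker_dvd hmul π
          ((e₀.trans e).surjective.comp (QuotientGroup.mk'_surjective _)) hπker.le hperf
        rw [hπker, Nat.card_congr Multiplicative.toAdd, Nat.card_zmod, Nat.dvd_one, card_eq_one] at h1
        exact hZ1 h1
      exact ⟨hZ1, F, iF, jF, by rw [hF]; norm_num, ⟨e₀.trans e⟩⟩

end Cfsg.Agent.Invol.CentInt
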