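import Cfsg.Agent.Lib.Invol.BenderCover.Models
import Cfsg.Agent.Lib.Lie.Sz.SylowLie
import Cfsg.Agent.S2112

/-!
# A non-central involution in the covers of `Sz(8)`

In a perfect central extension of `Sz(8)` with non-trivial kernel the lifts of the involutions are
involutions, and they are not all central in a Sylow 2-subgroup: otherwise that subgroup would have a
derived subgroup of order eight, too small to contain the kernel.
-/

set_option autoImplicit false
set_option linter.style.haveILetI false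

open Subgroup
open scoped commutatorElement Pointwise

namespace Cfsg.Agent.Invol.CentInt

universe u

theorem klein_sq (v : Multiplicative (ZMod 2 × ZMod 2)) : v * v = 1 := by
  revert v
  decide

theorem exists_double {U : Type*} [Group U] [Finite U] (H : Subgroup U) :
    ∃ x : U, min (2 * Nat.card H) (Nat.card U) ≤ Nat.card ↥(H ⊔ zpowers x) := by
  rcases eq_or_ne H ⊤ with rfl | hH
  · exact ⟨1, (min_le_right _ _).trans (le_of_eq (by rw [top_sup_eq, card_top]))⟩
  obtain ⟨x, hx⟩ : ∃ x, x ∉ H := by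
    by_contra h
    push Not at h
    exact hH (eq_top_iff' H |>.2 h)
  refine ⟨x, (min_le_left _ _).trans ?_⟩
  obtain ⟨k, hk⟩ := card_dvd_of_le (le_sup_left : H ≤ H ⊔ zpowers x)
  rw [hk, mul_comm]
  refine Nat.mul_le_mul_left _ ?_
  rcases k with _ | _ | k
  · exact absurd hk (by rw [mul_zero]; exact Nat.card_pos.ne')
  · simp only [Nat.zero_add, mul_one] at hk
    exact absurd (eq_of_le_of_card_ge le_sup_left hk.le ▸ mem_sup_right (mem_zpowers x)) hx
  · omega

/-- Commutators over a central subgroup `W` of index eight with exponent-two quotient make at most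
eight elements. -/
theorem card_commutator_le_eight {U : Type*} [Group U] [Finite U] (W : Subgroup U) (hW : W ≤ center U)
    (hWi : W.index = 8) (hsq : ∀ x : U, x * x ∈ W) (hW2 : ∀ w ∈ W, w * w = 1) :
    Nat.card (commutator U) ≤ 8 := by
  haveI : W.Normal := ⟨fun w hw g => by rwa [mem_center_iff.1 (hW hw) g, mul_inv_cancel_right]⟩
  set π := QuotientGroup.mk' W with hπ
  have hcomm : ∀ x y : U, ⁅x, y⁆ ∈ W := fun x y => by
    rw [← QuotientGroup.eq_one_iff, ← QuotientGroup.mk'_apply, map_commutatorElement,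
      commutatorElement_eq_one_iff_mul_comm]
    have h : ∀ q : U ⧸ W, q * q = 1 := fun q => by
      obtain ⟨r, rfl⟩ := QuotientGroup.mk'_surjective W q
      rw [← map_mul]
      exact (QuotientGroup.eq_one_iff _).2 (hsq r)
    have hi : ∀ q : U ⧸ W, q⁻¹ = q := fun q => inv_eq_of_mul_eq_one_right (h q)
    rw [← hi (π x * π y), mul_inv_rev, hi, hi]
  obtain ⟨x, hx⟩ := exists_double W
  obtain ⟨y, hy⟩ := exists_double (W ⊔ zpowers x)
  obtain ⟨z, hz⟩ := exists_double (W ⊔ zpowers x ⊔ zpowers y)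
  have htop : W ⊔ zpowers x ⊔ zpowers y ⊔ zpowers z = ⊤ := by
    refine eq_top_of_le_card _ ?_
    have := W.card_mul_index
    rw [hWi] at this
    omega
  obtain ⟨H, hH⟩ : ∃ H : Subgroup U, H = zpowers ⁅x, y⁆ ⊔ zpowers ⁅x, z⁆ ⊔ zpowers ⁅y, z⁆ := ⟨_, rfl⟩
  have hHW : H ≤ W := by
    rw [hH]
    exact sup_le (sup_le (zpowers_le.2 (hcomm x y)) (zpowers_le.2 (hcomm x z))) (zpowers_le.2 (hcomm y z))
  haveI : H.Normal :=
    ⟨fun w hw g => by rwa [mem_center_iff.1 (hW (hHW hw)) g, mul_inv_cancel_right]⟩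
  have hle : commutator U ≤ H := by
    rw [_root_.commutator_def, commutator_le]
    intro a _ b _
    rw [← QuotientGroup.eq_one_iff, ← QuotientGroup.mk'_apply, map_commutatorElement,
      commutatorElement_eq_one_iff_mul_comm]
    set ρ := QuotientGroup.mk' H
    have hgen : ∀ u : U, Commute (ρ x) (ρ u) → Commute (ρ y) (ρ u) → Commute (ρ z) (ρ u) →
        ∀ g : U, Commute (ρ g) (ρ u) := by
      intro u hxu hyu hzu g
      have hc : W ⊔ zpowers x ⊔ zpowers y ⊔ zpowers z ≤ (centralizer {ρ u}).comap ρ := by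
        refine sup_le (sup_le (sup_le (fun w hw => ?_) (zpowers_le.2 ?_)) (zpowers_le.2 ?_)) (zpowers_le.2 ?_)
        · rw [mem_comap, mem_centralizer_singleton_iff, ← map_mul, ← map_mul, mem_center_iff.1 (hW hw) u]
        · exact mem_centralizer_singleton_iff.2 hxu
        · exact mem_centralizer_singleton_iff.2 hyu
        · exact mem_centralizer_singleton_iff.2 hzu
      exact mem_centralizer_singleton_iff.1 (hc (htop ▸ mem_top g))
    have hg : ∀ u v : U, ⁅u, v⁆ ∈ H → Commute (ρ u) (ρ v) := fun u v h => by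
      have h1 : ρ ⁅u, v⁆ = 1 := (QuotientGroup.eq_one_iff _).2 h
      rw [map_commutatorElement, commutatorElement_eq_one_iff_mul_comm] at h1
      exact h1
    have hxy := hg x y (hH ▸ mem_sup_left (mem_sup_left (mem_zpowers _)))
    have hxz := hg x z (hH ▸ mem_sup_left (mem_sup_right (mem_zpowers _)))
    have hyz := hg y z (hH ▸ mem_sup_right (mem_zpowers _))
    have ha : ∀ g : U, Commute (ρ x) (ρ g) ∧ Commute (ρ y) (ρ g) ∧ Commute (ρ z) (ρ g) := fun g =>
      ⟨(hgen x (Commute.refl _) hxy.symm hxz.symm g).symm, (hgen y hxy (Commute.refl _) hyz.symm g).symm,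
        (hgen z hxz hyz (Commute.refl _) g).symm⟩
    exact (hgen b (ha b).1 (ha b).2.1 (ha b).2.2 a).eq
  refine (Nat.le_of_dvd Nat.card_pos (card_dvd_of_le hle)).trans ?_
  have h2 : ∀ c ∈ W, Nat.card (zpowers c) ≤ 2 := fun c hc => by
    rw [Nat.card_zpowers]
    exact orderOf_le_of_pow_eq_one two_pos (by rw [pow_two]; exact hW2 c hc)
  have hnorm : ∀ c ∈ W, ∀ K : Subgroup U, K ≤ normalizer ((zpowers c : Subgroup U) : Set U) := by
    intro c hc K g _
    refine mem_normalizer_iff.2 fun w => ?_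
    have hcen : ∀ v ∈ zpowers c, g * v = v * g := fun v hv => mem_center_iff.1 (hW (zpowers_le.2 hc hv)) g
    refine ⟨fun hw => by rwa [hcen w hw, mul_inv_cancel_right], fun hw => ?_⟩
    have h := hcen _ hw
    have e : g * w * g⁻¹ = w := by
      calc g * w * g⁻¹ = g⁻¹ * (g * (g * w * g⁻¹)) := by group
        _ = g⁻¹ * ((g * w * g⁻¹) * g) := by rw [h]
        _ = w := by group
    rwa [e] at hw
  have hsup : ∀ K : Subgroup U, ∀ c ∈ W, Nat.card ↥(K ⊔ zpowers c) ≤ Nat.card K * 2 := fun K c hc => by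
    calc Nat.card ↥(K ⊔ zpowers c) ≤ Nat.card ↥(K ⊔ zpowers c) * Nat.card ↥(K ⊓ zpowers c) :=
          Nat.le_mul_of_pos_right _ Nat.card_pos
      _ = Nat.card K * Nat.card (zpowers c) :=
          Grp.card_sup_mul_card_inf (hnorm c hc K)
      _ ≤ _ := Nat.mul_le_mul_left _ (h2 c hc)
  rw [hH]
  refine (hsup _ _ (hcomm y z)).trans ?_
  have h1 := hsup (zpowers ⁅x, y⁆) _ (hcomm x z)
  have h0 := h2 _ (hcomm x y)
  omega

/-- In a perfect central cover of `Sz(8)` with kernel of exponent two, not trivial, some involution lies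
outside the centre of a 2-subgroup containing it. -/
theorem exists_outside_sz {K : Type u} [Group K] [Finite K] {F : Type} [Field F] [Fintype F]
    (hS : Suz.SzField F 1) (π : K →* ↥(Cfsg.Sz F 1)) (hπ : Function.Surjective π)
    (hc : π.ker ≤ center K) (hp : commutator K = ⊤) (hne : π.ker ≠ ⊥) (h2 : ∀ z ∈ π.ker, z * z = 1) :
    ∃ U : Subgroup K, IsPGroup 2 U ∧ ∃ u ∈ U, ∃ y ∈ U, u * u = 1 ∧ u * y ≠ y * u := by
  classical
  haveI : Fact (Nat.Prime 2) := ⟨Nat.prime_two⟩
  haveI := Suz.charP hS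
  obtain ⟨T, hT⟩ : ∃ T : Subgroup ↥(Cfsg.Sz F 1), T = Suz.unip hS := ⟨_, rfl⟩
  obtain ⟨W, hW⟩ : ∃ W : Subgroup ↥(Cfsg.Sz F 1), ∀ g, g ∈ W ↔ ∃ b, g = Suz.uS hS 0 b :=
    ⟨{ carrier := {g | ∃ b, g = Suz.uS hS 0 b}
       one_mem' := ⟨0, (Suz.uS_zero hS).symm⟩
       mul_mem' := by
        rintro _ _ ⟨b, rfl⟩ ⟨b', rfl⟩
        exact ⟨b + b', by rw [Suz.uS_mul, Suz.th_zero]; simp⟩
       inv_mem' := by
        rintro _ ⟨b, rfl⟩
        exact ⟨b, by rw [Suz.uS_inv, mul_zero, add_zero]⟩ }, fun _ => Iff.rfl⟩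
  have hWT : W ≤ T := fun g hg => by
    obtain ⟨b, rfl⟩ := (hW g).1 hg
    exact hT ▸ (Suz.mem_unip hS).2 ⟨0, b, rfl⟩
  have hF : Fintype.card F = 8 := hS.2.trans (by norm_num)
  have hWcard : Nat.card W = 8 := by
    rw [← hF, ← Nat.card_eq_fintype_card (α := F)]
    refine (Nat.card_eq_of_bijective (fun b : F => (⟨Suz.uS hS 0 b, (hW _).2 ⟨b, rfl⟩⟩ : W))
      ⟨fun s t h => (Suz.uS_injective hS (congrArg Subtype.val h)).2, fun g => ?_⟩).symm
    obtain ⟨b, hb⟩ := (hW g).1 g.2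
    exact ⟨b, Subtype.ext hb.symm⟩
  have hTsq : ∀ t ∈ T, t * t ∈ W := fun t ht => by
    obtain ⟨a, b, rfl⟩ := (Suz.mem_unip hS).1 (hT ▸ ht)
    exact (hW _).2 ⟨_, by rw [← pow_two, Suz.uS_sq]⟩
  have hnorm : ∀ z : Fˣ, ∀ t ∈ T, Suz.hTor hS z * t * (Suz.hTor hS z)⁻¹ ∈ T := by
    intro z t ht
    obtain ⟨a, b, rfl⟩ := (Suz.mem_unip hS).1 (hT ▸ ht)
    exact hT ▸ (Suz.mem_unip hS).2 ⟨_, _, Suz.hTor_conj hS z a b⟩
  -- the derived subgroup of `T` contains `W`
  have hWcomm : W ≤ ⁅T, T⁆ := by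
    obtain ⟨a, ha0, ha1⟩ := Suz.exists_ne_zero_one hS
    have hne1 : ⁅Suz.uS hS 1 0, Suz.uS hS a 0⁆ ≠ 1 := by
      rw [Ne, commutatorElement_eq_one_iff_mul_comm, Suz.uS_mul, Suz.uS_mul]
      intro e
      have h := (Suz.uS_injective hS e).2
      simp only [add_zero, zero_add, Suz.th_one, one_mul, mul_one] at h
      rcases Suz.th_fixed hS h.symm with h' | h'
      · exact ha0 h'
      · exact ha1 h'
    have hm : ⁅Suz.uS hS 1 0, Suz.uS hS a 0⁆ ∈ ⁅T, T⁆ :=
      commutator_mem_commutator (hT ▸ (Suz.mem_unip hS).2 ⟨1, 0, rfl⟩) (hT ▸ (Suz.mem_unip hS).2 ⟨a, 0, rfl⟩)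
    obtain ⟨β, hβ⟩ : ∃ β, ⁅Suz.uS hS 1 0, Suz.uS hS a 0⁆ = Suz.uS hS 0 β := by
      obtain ⟨A', B', h⟩ := (Suz.mem_unip hS).1 (hT ▸ commutator_le_self T hm :
        ⁅Suz.uS hS 1 0, Suz.uS hS a 0⁆ ∈ Suz.unip hS)
      have h' := h
      rw [commutatorElement_def, Suz.uS_inv, Suz.uS_inv, Suz.uS_mul, Suz.uS_mul, Suz.uS_mul] at h'
      have hA' : A' = 0 := by
        rw [← (Suz.uS_injective hS h').1]
        linear_combination (1 + a) * Suz.two hS
      exact ⟨B', by rw [h, hA']⟩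
    have hβ0 : β ≠ 0 := fun h => hne1 (by rw [hβ, h, Suz.uS_zero])
    intro g hg
    obtain ⟨b, rfl⟩ := (hW g).1 hg
    by_cases hb : b = 0
    · rw [hb, Suz.uS_zero]; exact one_mem _
    obtain ⟨z, hz⟩ := Suz.exists_th_unit hS (b / β) (div_ne_zero hb hβ0)
    have e : Suz.hTor hS z * Suz.uS hS 0 β * (Suz.hTor hS z)⁻¹ = Suz.uS hS 0 b := by
      rw [Suz.hTor_conj, hz, mul_zero, div_mul_cancel₀ _ hβ0]
    rw [← e]
    have hmap : (⁅T, T⁆).map (MulAut.conj (Suz.hTor hS z)).toMonoidHom ≤ ⁅T, T⁆ := by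
      rw [map_commutator]
      refine commutator_mono ?_ ?_ <;> rintro _ ⟨t, ht, rfl⟩ <;> exact hnorm z t ht
    exact hmap ⟨_, hβ ▸ hm, rfl⟩
  -- the preimages
  obtain ⟨U, hU⟩ : ∃ U : Subgroup K, U = T.comap π := ⟨_, rfl⟩
  obtain ⟨V, hV⟩ : ∃ V : Subgroup K, V = W.comap π := ⟨_, rfl⟩
  have hUp : IsPGroup 2 U := by
    intro x
    have hTp : IsPGroup 2 T := hT ▸ Suz.isPGroup_unip hS
    obtain ⟨n, hn⟩ := hTp ⟨π x, mem_comap.1 (hU ▸ x.2)⟩
    refine ⟨n + 1, Subtype.ext ?_⟩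
    have h1 : (x : K) ^ 2 ^ n ∈ π.ker := by
      rw [MonoidHom.mem_ker, map_pow]
      simpa using congrArg Subtype.val hn
    rw [SubgroupClass.coe_pow, pow_succ, pow_mul, pow_two]
    exact h2 _ h1
  have hUi : ¬ 2 ∣ U.index := by
    rw [hU, index_comap_of_surjective _ hπ, hT]
    exact Suz.not_two_dvd_index_unip hS
  have hVU : V ≤ U := by rw [hU, hV]; exact comap_mono hWT
  have hKV : π.ker ≤ V := fun z hz => by rw [hV, mem_comap, MonoidHom.mem_ker.1 hz]; exact one_mem W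
  -- lifts of the involutions are involutions
  have hsqker : ∀ v ∈ V, v * v ∈ π.ker := fun v hv => by
    obtain ⟨b, hb⟩ := (hW _).1 (mem_comap.1 (hV ▸ hv))
    rw [MonoidHom.mem_ker, map_mul, hb, Suz.uS_mul, Suz.th_zero, zero_mul, add_zero, add_zero,
      CharTwo.add_self_eq_zero, Suz.uS_zero]
  have hV2 : ∀ v ∈ V, v * v = 1 := by
    intro v hv
    obtain ⟨b₁, hb₁⟩ := (hW _).1 (mem_comap.1 (hV ▸ hv))
    by_cases hb0 : b₁ = 0
    · exact h2 v (by rw [MonoidHom.mem_ker, hb₁, hb0, Suz.uS_zero])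
    have hconst : ∀ w ∈ V, π w ≠ 1 → w * w = v * v := by
      intro w hw hw1
      obtain ⟨b, hb⟩ := (hW _).1 (mem_comap.1 (hV ▸ hw))
      have hb' : b ≠ 0 := fun h => hw1 (by rw [hb, h, Suz.uS_zero])
      obtain ⟨z, hz⟩ := Suz.exists_th_unit hS (b / b₁) (div_ne_zero hb' hb0)
      obtain ⟨g, hg⟩ := hπ (Suz.hTor hS z)
      obtain ⟨k, hk⟩ : ∃ k, g * v * g⁻¹ = w * k := ⟨w⁻¹ * (g * v * g⁻¹), (mul_inv_cancel_left _ _).symm⟩
      have hkk : k ∈ π.ker := by
        have := congrArg π hk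
        rw [map_mul, map_mul, map_inv, map_mul, hg, hb₁, hb, Suz.hTor_conj, hz, mul_zero,
          div_mul_cancel₀ _ hb0, left_eq_mul] at this
        exact this
      calc w * w = w * w * (k * k) := by rw [h2 k hkk, mul_one]
        _ = (w * k) * (w * k) := by
            have hh : Commute k w := (mem_center_iff.1 (hc hkk) w).symm
            rw [hh.mul_mul_mul_comm]
        _ = g * (v * v) * g⁻¹ := by rw [← hk]; group
        _ = v * v := by rw [mem_center_iff.1 (hc (hsqker v hv)) g, mul_inv_cancel_right]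
    obtain ⟨c, hcv⟩ : ∃ c, c = v * v := ⟨_, rfl⟩
    rw [← hcv]
    have hcc : ∀ g : K, Commute g c := fun g => hcv ▸ mem_center_iff.1 (hc (hsqker v hv)) g
    have hc1 : c * c = 1 := hcv ▸ h2 _ (hsqker v hv)
    have hanti : ∀ p ∈ V, ∀ r ∈ V, π p ≠ 1 → π r ≠ 1 → π (p * r) ≠ 1 → r * p = p * r * c := by
      intro p hp' r hr h1 h3 h4
      have e1 := hconst p hp' h1
      have e2 := hconst r hr h3
      have e3 := hconst _ (mul_mem hp' hr) h4
      rw [← hcv] at e1 e2 e3
      calc r * p = (p * p) * (r * p) * (r * r) * (c * c) := by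
            rw [e1, e2, hc1, mul_one, ← (hcc (r * p)).eq, mul_assoc, hc1, mul_one]
        _ = p * ((p * r) * (p * r)) * r * (c * c) := by group
        _ = p * c * r * (c * c) := by rw [e3]
        _ = p * r * c := by rw [hc1, mul_one, mul_assoc, ← (hcc r).eq, ← mul_assoc]
    -- two more involutions
    obtain ⟨b₂, b₃, hb2, hb3, h12, h13, h23, h123⟩ : ∃ b₂ b₃ : F, b₂ ≠ 0 ∧ b₃ ≠ 0 ∧ b₁ + b₂ ≠ 0 ∧
        b₃ + b₁ ≠ 0 ∧ b₃ + b₂ ≠ 0 ∧ b₃ + (b₁ + b₂) ≠ 0 := by
      obtain ⟨b₂, hb₂⟩ : ∃ b₂ : F, b₂ ∉ ({0, b₁} : Finset F) := by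
        by_contra h
        push Not at h
        have := Finset.card_le_card (fun x (_ : x ∈ (Finset.univ : Finset F)) => h x)
        rw [Finset.card_univ, hF] at this
        have := Finset.card_le_two (a := (0 : F)) (b := b₁)
        omega
      obtain ⟨b₃, hb₃⟩ : ∃ b₃ : F, b₃ ∉ ({0, b₁, b₂, b₁ + b₂} : Finset F) := by
        by_contra h
        push Not at h
        have := Finset.card_le_card (fun x (_ : x ∈ (Finset.univ : Finset F)) => h x)
        rw [Finset.card_univ, hF] at this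
        have := Finset.card_le_four (a := (0 : F)) (b := b₁) (c := b₂) (d := b₁ + b₂)
        omega
      simp only [Finset.mem_insert, Finset.mem_singleton, not_or] at hb₂ hb₃
      exact ⟨b₂, b₃, hb₂.1, hb₃.1, fun h => hb₂.2 (by linear_combination h - b₁ * Suz.two hS),
        fun h => hb₃.2.1 (by linear_combination h - b₁ * Suz.two hS),
        fun h => hb₃.2.2.1 (by linear_combination h - b₂ * Suz.two hS),
        fun h => hb₃.2.2.2 (by linear_combination h - (b₁ + b₂) * Suz.two hS)⟩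
    obtain ⟨p, hp'⟩ := hπ (Suz.uS hS 0 b₂)
    obtain ⟨r, hr⟩ := hπ (Suz.uS hS 0 b₃)
    have hpV : p ∈ V := by rw [hV, mem_comap, hp']; exact (hW _).2 ⟨_, rfl⟩
    have hrV : r ∈ V := by rw [hV, mem_comap, hr]; exact (hW _).2 ⟨_, rfl⟩
    have hmulb : ∀ s t : F, Suz.uS hS 0 s * Suz.uS hS 0 t = Suz.uS hS 0 (s + t) := fun s t => by
      rw [Suz.uS_mul, Suz.th_zero]; simp
    have hne' : ∀ s : F, s ≠ 0 → Suz.uS hS 0 s ≠ 1 := fun s hs => Suz.uS_ne_one hS (by simp [hs])
    have a1 := hanti v hv p hpV (hb₁ ▸ hne' _ hb0) (hp' ▸ hne' _ hb2)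
      (by rw [map_mul, hb₁, hp', hmulb]; exact hne' _ h12)
    have a2 := hanti r hrV v hv (hr ▸ hne' _ hb3) (hb₁ ▸ hne' _ hb0)
      (by rw [map_mul, hr, hb₁, hmulb]; exact hne' _ h13)
    have a3 := hanti r hrV p hpV (hr ▸ hne' _ hb3) (hp' ▸ hne' _ hb2)
      (by rw [map_mul, hr, hp', hmulb]; exact hne' _ h23)
    have a4 := hanti r hrV (v * p) (mul_mem hv hpV) (hr ▸ hne' _ hb3)
      (by rw [map_mul, hb₁, hp', hmulb]; exact hne' _ h12)
      (by rw [map_mul, map_mul, hr, hb₁, hp', hmulb, hmulb]; exact hne' _ h123)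
    have e : v * p * r = r * (v * p) * (c * c) := by
      calc v * p * r = v * (p * r) := mul_assoc _ _ _
        _ = v * r * p * c := by rw [a3]; group
        _ = r * v * c * p * c := by rw [a2]
        _ = r * v * (p * c) * c := by rw [(hcc p).eq]; group
        _ = _ := by group
    rw [a4, hc1, mul_one, mul_eq_left] at e
    exact e
  -- not all of them are central in `U`
  by_contra hno
  push Not at hno
  have hcen : V.subgroupOf U ≤ center U := fun w hw => mem_center_iff.2 fun y =>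
    Subtype.ext (hno U hUp w w.2 y y.2 (hV2 _ hw)).symm
  have hidx : (V.subgroupOf U).index = 8 := by
    show V.relIndex U = 8
    rw [hV, relIndex_comap, hU, map_comap_eq_self_of_surjective hπ]
    have h := relIndex_mul_relIndex ⊥ W T bot_le hWT
    rw [relIndex_bot_left, relIndex_bot_left, hWcard, hT, Suz.card_unip] at h
    rw [hT]
    norm_num at h
    omega
  have hsqU : ∀ x : U, x * x ∈ V.subgroupOf U := fun x => by
    show (x : K) * x ∈ V
    rw [hV, mem_comap, map_mul]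
    exact hTsq _ (mem_comap.1 (hU ▸ x.2))
  have h8 := card_commutator_le_eight _ hcen hidx hsqU fun w hw => Subtype.ext (hV2 _ hw)
  have hcard : Nat.card (⁅U, U⁆ : Subgroup K) ≤ 8 := by
    have e : (commutator U).map U.subtype = ⁅U, U⁆ := by
      rw [_root_.commutator_def, map_commutator, ← MonoidHom.range_eq_map, range_subtype]
    rwa [← e, card_map_of_injective U.subtype_injective]
  obtain ⟨z, hz, hz1⟩ := (π.ker.bot_or_exists_ne_one).resolve_left hne
  have hzU : z ∈ ⁅U, U⁆ := BenderCover.mem_commutator_of_central U hUi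
    (fun g => (mem_center_iff.1 (hc hz) g).symm) (h2 z hz) (hVU (hKV hz)) (hp ▸ mem_top z)
  have himg : (⁅U, U⁆).map π = ⁅T, T⁆ := by
    rw [map_commutator, hU, map_comap_eq_self_of_surjective hπ]
  have hge : 8 ≤ Nat.card ((⁅U, U⁆).map π) := by
    rw [himg, ← hWcard]
    exact Nat.le_of_dvd Nat.card_pos (card_dvd_of_le hWcomm)
  have hbij : Function.Bijective (π.subgroupMap ⁅U, U⁆) :=
    (Nat.bijective_iff_surjective_and_card _).2 ⟨π.subgroupMap_surjective _,
      le_antisymm (hcard.trans hge) (Nat.le_of_dvd Nat.card_pos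
        (card_dvd_of_surjective _ (π.subgroupMap_surjective _)))⟩
  have := @hbij.1 ⟨z, hzU⟩ 1 (Subtype.ext (by rw [map_one]; exact hz))
  exact hz1 (congrArg Subtype.val this)

/-- Every Sylow 2-subgroup of a nonsplit cover of `Sz(8)` times a central 2-group has an involution
outside its centre. -/
theorem exists_outside_involution {M : Type u} [Group M] [Finite M] {A L : Subgroup M}
    (hA : A ≤ center M) (hA2 : IsPGroup 2 A) (hL : Group.IsPerfect L) (hAL : A ⊔ L = ⊤)
    (hZ : center L ≠ ⊥) {F : Type} [Field F] [Fintype F] (hF : Fintype.card F = 8)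
    (e : L ⧸ center L ≃* ↥(Cfsg.Lie.Sz F 4)) (S : Sylow 2 M) :
    ∃ u ∈ (S : Subgroup M), u * u = 1 ∧ u ∉ centralizer ((S : Subgroup M) : Set M) := by
  haveI : Fact (Nat.Prime 2) := ⟨Nat.prime_two⟩
  haveI : Small.{0} L := inferInstance
  have hS : Suz.SzField F 1 := ⟨le_rfl, by rw [hF]; norm_num⟩
  let π : L →* ↥(Cfsg.Sz F 1) :=
    ((e.trans (Suz.szEquiv hS).symm).toMonoidHom).comp (QuotientGroup.mk' (center L))
  have hker : π.ker = center L := by
    ext x
    simp [π, MonoidHom.mem_ker]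
  have hπs : Function.Surjective π :=
    (e.trans (Suz.szEquiv hS).symm).surjective.comp (QuotientGroup.mk'_surjective _)
  -- the centre has exponent two
  have h2 : ∀ z ∈ π.ker, z * z = 1 := by
    let E : Shrink.{0} L ≃* L := Shrink.mulEquiv
    haveI : Finite (Shrink.{0} L) := Finite.of_equiv L E.symm.toEquiv
    let σ : Shrink.{0} L →* ↥(Cfsg.Lie.Sz F 4) := (e.toMonoidHom.comp (QuotientGroup.mk' (center L))).comp
      E.toMonoidHom
    have hσ : ∀ x, x ∈ σ.ker ↔ E x ∈ center L := fun x => by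
      rw [MonoidHom.mem_ker]
      show e (QuotientGroup.mk (E x)) = 1 ↔ _
      rw [map_eq_one_iff e e.injective, QuotientGroup.eq_one_iff]
    have hst : Cfsg.IsStemExtension σ := by
      refine ⟨(e.surjective.comp (QuotientGroup.mk'_surjective _)).comp E.surjective,
        fun x hx => mem_center_iff.2 fun y => E.injective ?_, fun x _ => ?_⟩
      · rw [map_mul, map_mul]
        exact mem_center_iff.1 ((hσ x).1 hx) (E y)
      · haveI := hL
        haveI : Group.IsPerfect (Shrink.{0} L) :=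
          Group.IsPerfect.ofSurjective (f := E.symm.toMonoidHom) E.symm.surjective
        rw [‹Group.IsPerfect (Shrink.{0} L)›.commutator_eq_top]
        trivial
    obtain ⟨ρ, hρ⟩ := (S2112.result hF).2 _ σ hst
    intro z hz
    rw [hker] at hz
    obtain ⟨w, hw⟩ := hρ ⟨E.symm z, (hσ _).2 (by rw [MulEquiv.apply_symm_apply]; exact hz)⟩
    have h : ρ w * ρ w = 1 := by rw [← map_mul, klein_sq, map_one]
    rw [hw] at h
    have h' : E.symm z * E.symm z = 1 := congrArg Subtype.val h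
    rw [← map_mul] at h'
    exact E.symm.map_eq_one_iff.1 h'
  obtain ⟨U, hU, u, hu, y, hy, huu, huy⟩ :=
    exists_outside_sz hS π hπs hker.le hL.commutator_eq_top (hker ▸ hZ) h2
  obtain ⟨T, hT⟩ := (hU.map L.subtype).exists_le_sylow
  obtain ⟨g, hg⟩ := MulAction.exists_smul_eq M T S
  have hmem : ∀ x ∈ U, g * (x : M) * g⁻¹ ∈ (S : Subgroup M) := fun x hx => by
    rw [← hg, Sylow.coe_subgroup_smul, mem_pointwise_smul_iff_inv_smul_mem]
    simpa [mul_assoc] using hT ⟨x, hx, rfl⟩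
  refine ⟨g * u * g⁻¹, hmem u hu, ?_, fun hcen => huy (Subtype.ext ?_)⟩
  · rw [show g * (u : M) * g⁻¹ * (g * u * g⁻¹) = g * ((u * u : L) : M) * g⁻¹ by rw [L.coe_mul]; group, huu]
    simp
  · have h := mem_centralizer_iff.1 hcen _ (hmem y hy)
    have h' : g * ((y : M) * u) * g⁻¹ = g * ((u : M) * y) * g⁻¹ := by
      calc g * ((y : M) * u) * g⁻¹ = g * y * g⁻¹ * (g * u * g⁻¹) := by group
        _ = g * u * g⁻¹ * (g * y * g⁻¹) := h
        _ = _ := by group
    exact (mul_left_cancel (mul_right_cancel h')).symm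

end Cfsg.Agent.Invol.CentInt
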