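import Cfsg.Agent.S3183
import Cfsg.Agent.Lib.Invol.Sylow

/-!
# Groups in which two Sylow 2-subgroups meet centrally

An element of a Sylow 2-subgroup outside its centre lies in no other one, so the normaliser of a
Sylow 2-subgroup controls fusion in it.  The hypothesis passes to subgroups and quotients.
-/

set_option autoImplicit false
set_option linter.style.haveILetI false

open Subgroup

namespace Cfsg.Agent.Invol.CentInt

variable {G : Type*} [Group G]

/-- Two distinct Sylow 2-subgroups meet in the centre of a Sylow 2-subgroup. -/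
def CI (G : Type*) [Group G] : Prop :=
  ∀ S T : Sylow 2 G, S ≠ T → ∃ U : Sylow 2 G,
    (S : Subgroup G) ⊓ (T : Subgroup G) ≤ (Subgroup.center ↥(U : Subgroup G)).map (U : Subgroup G).subtype

/-- The centre of a Sylow 2-subgroup as a subgroup of the group. -/
def zc (S : Sylow 2 G) : Subgroup G := (S : Subgroup G) ⊓ centralizer ((S : Subgroup G) : Set G)

theorem mem_zc {S : Sylow 2 G} {x : G} : x ∈ zc S ↔ x ∈ S ∧ ∀ s ∈ (S : Subgroup G), s * x = x * s := by
  rw [zc, mem_inf, mem_centralizer_iff]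
  exact Iff.rfl

theorem zc_le (S : Sylow 2 G) : zc S ≤ (S : Subgroup G) := inf_le_left

theorem zc_eq (S : Sylow 2 G) : zc S = (Subgroup.center ↥(S : Subgroup G)).map (S : Subgroup G).subtype := by
  ext x
  rw [mem_zc]
  refine ⟨fun h => ⟨⟨x, h.1⟩, mem_center_iff.2 fun s => Subtype.ext (h.2 s s.2), rfl⟩, ?_⟩
  rintro ⟨y, hy, rfl⟩
  exact ⟨y.2, fun s hs => congrArg Subtype.val (mem_center_iff.1 hy ⟨s, hs⟩)⟩

theorem mem_zc_of_commute {S : Sylow 2 G} {x y : G} (hx : x ∈ zc S) (hy : y ∈ (S : Subgroup G)) :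
    y * x = x * y := (mem_zc.1 hx).2 y hy

theorem mem_normalizer_conj_mem {S : Sylow 2 G} {n x : G} (hn : n ∈ normalizer ((S : Subgroup G) : Set G))
    (hx : x ∈ (S : Subgroup G)) : n * x * n⁻¹ ∈ (S : Subgroup G) := (mem_normalizer_iff.1 hn x).1 hx

theorem conj_mem_zc {S : Sylow 2 G} {n x : G} (hn : n ∈ normalizer ((S : Subgroup G) : Set G))
    (hx : x ∈ zc S) : n * x * n⁻¹ ∈ zc S := by
  refine mem_zc.2 ⟨mem_normalizer_conj_mem hn (zc_le S hx), fun s hs => ?_⟩
  have h := mem_zc_of_commute hx (mem_normalizer_conj_mem (inv_mem hn) hs)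
  rw [inv_inv] at h
  calc s * (n * x * n⁻¹) = n * (n⁻¹ * s * n * x) * n⁻¹ := by group
    _ = n * (x * (n⁻¹ * s * n)) * n⁻¹ := by rw [h]
    _ = _ := by group

theorem conj_mem_zc_iff {S : Sylow 2 G} {n x : G} (hn : n ∈ normalizer ((S : Subgroup G) : Set G)) :
    n * x * n⁻¹ ∈ zc S ↔ x ∈ zc S := by
  refine ⟨fun h => ?_, conj_mem_zc hn⟩
  simpa [mul_assoc] using conj_mem_zc (inv_mem hn) h

variable [Finite G] (hCI : CI G)
include hCI

/-- An element of `S` outside the centre of `S` lies in no other Sylow 2-subgroup. -/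
theorem sylow_unique {S T : Sylow 2 G} {x : G} (hxS : x ∈ (S : Subgroup G)) (hxZ : x ∉ zc S)
    (hxT : x ∈ (T : Subgroup G)) : T = S := by
  by_contra h
  exact hxZ (mem_zc.2 ⟨hxS, S3183.central_of_mem hCI S T h x hxS hxT⟩)

theorem mem_normalizer_of_conj {S : Sylow 2 G} {x g : G} (hxS : x ∈ (S : Subgroup G)) (hxZ : x ∉ zc S)
    (h : g * x * g⁻¹ ∈ (S : Subgroup G)) : g ∈ normalizer ((S : Subgroup G) : Set G) := by
  have hT : x ∈ ((g⁻¹ • S : Sylow 2 G) : Subgroup G) := by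
    rw [Sylow.coe_subgroup_smul, mem_pointwise_smul_iff_inv_smul_mem]
    simpa using h
  have := Sylow.smul_eq_iff_mem_normalizer.1 (sylow_unique hCI hxS hxZ hT)
  simpa using inv_mem this

theorem centralizer_le_normalizer {S : Sylow 2 G} {x : G} (hxS : x ∈ (S : Subgroup G)) (hxZ : x ∉ zc S) :
    centralizer ({x} : Set G) ≤ normalizer ((S : Subgroup G) : Set G) := fun g hg => by
  refine mem_normalizer_of_conj hCI hxS hxZ ?_
  rw [mem_centralizer_singleton_iff.1 hg, mul_inv_cancel_right]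
  exact hxS

/-- The normaliser of `S` controls fusion in `S`. -/
theorem exists_normalizer_conj {S : Sylow 2 G} {x g : G} (hxS : x ∈ (S : Subgroup G))
    (h : g * x * g⁻¹ ∈ (S : Subgroup G)) :
    ∃ n ∈ normalizer ((S : Subgroup G) : Set G), n * x * n⁻¹ = g * x * g⁻¹ := by
  haveI : Fact (Nat.Prime 2) := ⟨Nat.prime_two⟩
  by_cases hxZ : x ∈ zc S
  · by_cases hyZ : g * x * g⁻¹ ∈ zc S
    · obtain ⟨n, hn, he⟩ := Sylow.conj_eq_normalizer_conj_of_mem_centralizer S x g⁻¹ (mem_zc.1 hxZ |> fun h0 =>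
        mem_centralizer_iff.2 h0.2) (by
          refine mem_centralizer_iff.2 fun s hs => ?_
          rw [inv_inv]
          exact (mem_zc.1 hyZ).2 s hs)
      exact ⟨n⁻¹, inv_mem hn, by rw [inv_inv] at he; rw [inv_inv, ← he]⟩
    · have := mem_normalizer_of_conj hCI (g := g⁻¹) h hyZ (by simpa [mul_assoc] using hxS)
      exact ⟨g, by simpa using inv_mem this, rfl⟩
  · exact ⟨g, mem_normalizer_of_conj hCI hxS hxZ h, rfl⟩

theorem conj_mem_zc_of_mem {S : Sylow 2 G} {x g : G} (hxZ : x ∈ zc S)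
    (h : g * x * g⁻¹ ∈ (S : Subgroup G)) : g * x * g⁻¹ ∈ zc S := by
  obtain ⟨n, hn, he⟩ := exists_normalizer_conj hCI (zc_le S hxZ) h
  exact he ▸ conj_mem_zc hn hxZ

omit hCI in
/-- An element normalising `S` whose square centralises `c ∈ Z(S)` centralises it. -/
theorem fix_of_sq_fix {S : Sylow 2 G} {n c : G} (hn : n ∈ normalizer ((S : Subgroup G) : Set G))
    (hc : c ∈ zc S) (h2 : Commute (n ^ 2) c) : Commute n c := by
  haveI : Fact (Nat.Prime 2) := ⟨Nat.prime_two⟩
  obtain ⟨a, m, hm, hord⟩ := Nat.exists_eq_two_pow_mul_odd (orderOf_pos n).ne'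
  -- the 2-part of `n` lies in `S`
  have hmem : n ^ m ∈ (S : Subgroup G) := by
    have hp : IsPGroup 2 (zpowers (n ^ m)) := by
      refine IsPGroup.of_card (n := a) ?_
      rw [Nat.card_zpowers, orderOf_pow, hord, Nat.gcd_eq_right (dvd_mul_left m _),
        Nat.mul_div_cancel _ hm.pos]
    have hle : zpowers (n ^ m) ≤ normalizer ((S : Subgroup G) : Set G) :=
      zpowers_le.2 (pow_mem hn m)
    have hsup := hp.to_sup_of_normal_right' S.isPGroup' hle
    have := S.3 hsup le_sup_right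
    exact this ▸ mem_sup_left (mem_zpowers _)
  obtain ⟨j, hj⟩ := hm
  have h1 : Commute (n ^ m) c := mem_zc_of_commute hc hmem
  have h3 : Commute ((n ^ 2) ^ j) c := h2.pow_left j
  have : n = n ^ m * ((n ^ 2) ^ j)⁻¹ := by
    rw [eq_mul_inv_iff_mul_eq, hj, ← pow_mul, pow_succ', ]
  rw [this]
  exact h1.mul_left h3.inv_left

/-- If two elements of `Z(S)` differing by `d` are conjugate under an element centralising `d`, then `d = 1`. -/
theorem eq_one_of_conj_mul {S : Sylow 2 G} {y d g : G} (hy : y ∈ zc S) (hd : d ∈ zc S)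
    (hdc : ∀ n ∈ normalizer ((S : Subgroup G) : Set G), Commute n d)
    (h : g * y * g⁻¹ = y * d) : d = 1 := by
  obtain ⟨n, hn, he⟩ := exists_normalizer_conj hCI (zc_le S hy)
    (h ▸ zc_le S (mul_mem hy hd))
  rw [h] at he
  haveI : Fact (Nat.Prime 2) := ⟨Nat.prime_two⟩
  have hpow : ∀ k : ℕ, n ^ k * y * (n ^ k)⁻¹ = y * d ^ k := by
    intro k
    induction k with
    | zero => simp
    | succ k ih =>
      calc n ^ (k + 1) * y * (n ^ (k + 1))⁻¹ = n * (n ^ k * y * (n ^ k)⁻¹) * n⁻¹ := by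
            rw [pow_succ']; group
        _ = (n * y * n⁻¹) * (n * d ^ k * n⁻¹) := by rw [ih]; group
        _ = y * d ^ (k + 1) := by
            rw [he, ((hdc n hn).pow_right k).eq, mul_inv_cancel_right, mul_assoc, ← pow_succ']
  obtain ⟨a, m, hm, hord⟩ := Nat.exists_eq_two_pow_mul_odd (orderOf_pos n).ne'
  obtain ⟨e, hde⟩ := (S.isPGroup'.to_le (zpowers_le.2 (zc_le S hd))).exists_card_eq
  rw [Nat.card_zpowers] at hde
  have hmem : n ^ m ∈ (S : Subgroup G) := by
    have hp : IsPGroup 2 (zpowers (n ^ m)) := by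
      refine IsPGroup.of_card (n := a) ?_
      rw [Nat.card_zpowers, orderOf_pow, hord, Nat.gcd_eq_right (dvd_mul_left m _),
        Nat.mul_div_cancel _ hm.pos]
    have hsup := hp.to_sup_of_normal_right' S.isPGroup' (zpowers_le.2 (pow_mem hn m))
    exact S.3 hsup le_sup_right ▸ mem_sup_left (mem_zpowers _)
  have h1 := hpow m
  rw [mem_zc_of_commute hy hmem, mul_inv_cancel_right, left_eq_mul, ← orderOf_dvd_iff_pow_eq_one, hde] at h1
  have : 2 ^ e = 1 := Nat.eq_one_of_dvd_coprimes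
    (Nat.Coprime.pow_left e (Nat.coprime_two_left.2 hm)) dvd_rfl h1
  exact orderOf_eq_one_iff.1 (hde.trans this)

theorem CI.subgroup (H : Subgroup G) : CI H := by
  haveI : Fact (Nat.Prime 2) := ⟨Nat.prime_two⟩
  intro S T hne
  obtain ⟨P, hP⟩ := (S.isPGroup'.map H.subtype).exists_le_sylow
  obtain ⟨Q, hQ⟩ := (T.isPGroup'.map H.subtype).exists_le_sylow
  have aux : ∀ (U : Sylow 2 H) (R : Sylow 2 G), (U : Subgroup H).map H.subtype ≤ R →
      (R : Subgroup G).subgroupOf H = U := fun U R hUR =>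
    U.3 (R.isPGroup'.comap_subtype) (map_le_iff_le_comap.1 hUR)
  have hPQ : Q ≠ P := fun e => hne (Sylow.ext (by rw [← aux S P hP, ← aux T Q hQ, e]))
  refine ⟨S, fun x hx => ⟨⟨x, hx.1⟩, mem_center_iff.2 fun s => Subtype.ext (Subtype.ext ?_), rfl⟩⟩
  exact S3183.central_of_mem hCI P Q hPQ x (hP ⟨x, hx.1, rfl⟩) (hQ ⟨x, hx.2, rfl⟩) _ (hP ⟨s, s.2, rfl⟩)

theorem CI.map {Q : Type*} [Group Q] (f : G →* Q) (hf : Function.Surjective f) : CI Q := by
  haveI : Fact (Nat.Prime 2) := ⟨Nat.prime_two⟩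
  haveI : Finite Q := Finite.of_surjective f hf
  intro S T hne
  set K := ((S : Subgroup Q) ⊓ (T : Subgroup Q)).comap f with hK
  obtain ⟨R⟩ : Nonempty (Sylow 2 K) := inferInstance
  obtain ⟨S₀, rfl⟩ := Sylow.mapSurjective_surjective hf 2 S
  obtain ⟨T₀, rfl⟩ := Sylow.mapSurjective_surjective hf 2 T
  -- conjugates of the lifts containing `R`
  have aux : ∀ U : Sylow 2 G, K ≤ ((U : Subgroup G).map f).comap f → ∃ V : Sylow 2 G,
      (R : Subgroup K).map K.subtype ≤ V ∧ (V : Subgroup G).map f = (U : Subgroup G).map f := by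
    intro U hU
    set P := ((U : Subgroup G).map f).comap f with hP
    have hUP : (U : Subgroup G) ≤ P := le_comap_map f U
    have hRP : (R : Subgroup K).map K.subtype ≤ P := (map_subtype_le _).trans hU
    obtain ⟨W, hW⟩ := ((R.isPGroup'.map K.subtype).comap_subtype (K := P)).exists_le_sylow
    obtain ⟨p, hp⟩ := MulAction.exists_smul_eq P (U.subtype hUP) W
    rw [Sylow.smul_subtype] at hp
    refine ⟨(p : G) • U, fun x hx => ?_, ?_⟩
    · have : (⟨x, hRP hx⟩ : P) ∈ (W : Subgroup P) := hW hx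
      rw [← hp] at this
      exact this
    · obtain ⟨u, hu, hup⟩ : f p ∈ (U : Subgroup G).map f := p.2
      ext q
      simp only [mem_map, Sylow.coe_subgroup_smul, mem_pointwise_smul_iff_inv_smul_mem]
      constructor
      · rintro ⟨v, hv, rfl⟩
        exact ⟨_, mul_mem (mul_mem hu hv) (inv_mem hu), by simp [hup, mul_assoc]⟩
      · rintro ⟨v, hv, rfl⟩
        refine ⟨p * (u⁻¹ * v * u) * (p : G)⁻¹, ?_, by simp [hup, mul_assoc]⟩
        simpa [mul_assoc] using mul_mem (mul_mem (inv_mem hu) hv) hu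
  obtain ⟨S₁, hRS, hS⟩ := aux S₀ fun x hx => hx.1
  obtain ⟨T₁, hRT, hT⟩ := aux T₀ fun x hx => hx.2
  have hne' : T₁ ≠ S₁ := fun e => hne (Sylow.ext (by
    rw [Sylow.coe_mapSurjective, Sylow.coe_mapSurjective, ← hS, ← hT, e]))
  -- `R` maps onto the intersection
  have hsurj : ∀ y ∈ ((S₀.mapSurjective hf : Sylow 2 Q) : Subgroup Q) ⊓ (T₀.mapSurjective hf : Sylow 2 Q),
      y ∈ ((R : Subgroup K).map K.subtype).map f := by
    let π : K →* ↥(((S₀.mapSurjective hf : Sylow 2 Q) : Subgroup Q) ⊓ (T₀.mapSurjective hf : Sylow 2 Q)) :=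
      (f.comp K.subtype).codRestrict _ fun k => k.2
    have hπ : Function.Surjective π := fun y => by
      obtain ⟨x, hx⟩ := hf y
      exact ⟨⟨x, by rw [hK, mem_comap, hx]; exact y.2⟩, Subtype.ext hx⟩
    intro y hy
    have htop : (R : Subgroup K).map π = ⊤ := by
      have h2 := ((S₀.mapSurjective hf).isPGroup'.to_le (inf_le_left (b :=
        ((T₀.mapSurjective hf : Sylow 2 Q) : Subgroup Q)))).to_subgroup ⊤
      have := (R.mapSurjective hπ).3 h2 le_top
      rw [← Sylow.coe_mapSurjective hπ]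
      exact this.symm
    obtain ⟨k, hk, hky⟩ : (⟨y, hy⟩ : ↥(((S₀.mapSurjective hf : Sylow 2 Q) : Subgroup Q) ⊓ (T₀.mapSurjective hf : Sylow 2 Q))) ∈ (R : Subgroup K).map π := by
      rw [htop]; exact mem_top _
    exact ⟨k, ⟨k, hk, rfl⟩, congrArg Subtype.val hky⟩
  refine ⟨S₀.mapSurjective hf, fun y hy => ?_⟩
  rw [← zc_eq, mem_zc]
  refine ⟨hy.1, fun s hs => ?_⟩
  obtain ⟨x, hx, rfl⟩ := hsurj y hy
  rw [Sylow.coe_mapSurjective, ← hS] at hs
  obtain ⟨s₁, hs₁, rfl⟩ := hs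
  rw [← map_mul, ← map_mul, S3183.central_of_mem hCI S₁ T₁ hne' x (hRS hx) (hRT hx) s₁ hs₁]

end Cfsg.Agent.Invol.CentInt
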