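import Cfsg.Agent.Lib.Grp.Coprime
import Cfsg.Agent.Lib.Invol.HallFourGroup
import Cfsg.Agent.Lib.Invol.OneInvol

/-!
# A 2-group acting on a group of odd order with few fixed points

`S` acts on `O` so that an element outside `C(S)` fixes only what `S` fixes, and non-trivially.  On a
minimal invariant subgroup the acting group has one involution, so the derived subgroup of `S` is cyclic.
-/

set_option autoImplicit false
set_option linter.style.haveILetI false

open Subgroup
open scoped commutatorElement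

namespace Cfsg.Agent.Invol.CentInt

variable {G : Type*} [Group G] [Finite G]

/-- A subgroup `N` of `O`, minimal among the `S`-invariant ones not centralised by `T`. -/
theorem exists_minimal {S O : Subgroup G} {T : Set G} (hS : IsPGroup 2 S) (hO : Odd (Nat.card O))
    (hn : S ≤ normalizer (O : Set G)) (hT : ¬ O ≤ centralizer T) :
    ∃ (p : ℕ) (N : Subgroup G), p.Prime ∧ p ≠ 2 ∧ IsPGroup p N ∧ N ≤ O ∧ S ≤ normalizer (N : Set G) ∧
      ¬ N ≤ centralizer T ∧
      ∀ M : Subgroup G, M < N → S ≤ normalizer (M : Set G) → M ≤ centralizer T := by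
  classical
  haveI : Fact (Nat.Prime 2) := ⟨Nat.prime_two⟩
  obtain ⟨N, ⟨hNO, hNn, hNT⟩, hmin⟩ := (Set.toFinite {N : Subgroup G | N ≤ O ∧
    S ≤ normalizer (N : Set G) ∧ ¬ N ≤ centralizer T}).exists_minimal ⟨O, le_rfl, hn, hT⟩
  have hlt : ∀ M : Subgroup G, M < N → S ≤ normalizer (M : Set G) → M ≤ centralizer T := by
    intro M hM hMn
    by_contra h
    exact hM.not_ge (hmin ⟨hM.le.trans hNO, hMn, h⟩ hM.le)
  have hNodd : Odd (Nat.card N) := Odd.of_dvd_nat hO (card_dvd_of_le hNO)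
  have hcop : (Nat.card S).Coprime (Nat.card N) := by
    obtain ⟨k, hk⟩ := IsPGroup.iff_card.1 hS
    rw [hk]
    exact (Nat.coprime_two_left.2 hNodd).pow_left k
  haveI : Group.IsNilpotent S := hS.isNilpotent
  have hsol : Group.IsSolvable S := inferInstance
  by_cases hall : ∀ q : ℕ, q.Prime → ¬ IsPGroup q N
  · exfalso
    refine hNT ((Grp.le_of_forall_sylow inf_le_left fun q hq => ?_).trans
      (inf_le_right (a := N) (b := centralizer T)))
    obtain ⟨X, hX, hXn⟩ := Grp.exists_invariant_sylow S N hNn hcop (Or.inl hsol) q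
    refine ⟨X, hX, le_inf hX.1 (hlt X (lt_of_le_of_ne hX.1 ?_) hXn)⟩
    rintro rfl
    exact hall q hq.out hX.2.1
  push Not at hall
  obtain ⟨q, hq, hqN⟩ := hall
  refine ⟨q, N, hq, ?_, hqN, hNO, hNn, hNT, hlt⟩
  rintro rfl
  obtain ⟨k, hk⟩ := IsPGroup.iff_card.1 hqN
  rcases k.eq_zero_or_pos with rfl | hk0
  · rw [pow_zero] at hk
    exact hNT ((Subgroup.card_eq_one.1 hk).trans_le bot_le)
  · exact Nat.not_even_iff_odd.2 hNodd (hk ▸ Nat.even_pow.2 ⟨even_two, hk0.ne'⟩)

section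

variable {S O N : Subgroup G} {T : Set G} (hS : IsPGroup 2 S) (hNO : N ≤ O)
  (hNn : S ≤ normalizer (N : Set G)) (hT : T ⊆ S)
  (hfix : ∀ x ∈ S, x ∉ centralizer (S : Set G) → O ⊓ centralizer ({x} : Set G) ≤ centralizer (S : Set G))
  (hNT : ¬ N ≤ centralizer T)

/-- The action of `S` on `N` by conjugation. -/
noncomputable def actHom : ↥S →* MulAut ↥N := N.normalizerMonoidHom.comp (inclusion hNn)

omit [Finite G] in
theorem actHom_apply (s : ↥S) (n : ↥N) : ((actHom hNn s n : ↥N) : G) = s * n * (s : G)⁻¹ := rfl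

omit [Finite G] in
theorem actHom_eq_one_iff (s : ↥S) : actHom hNn s = 1 ↔ ∀ n ∈ N, (s : G) * n = n * s := by
  constructor
  · intro h n hn
    have := congrArg (fun e : MulAut ↥N => ((e ⟨n, hn⟩ : ↥N) : G)) h
    simp only [actHom_apply, MulAut.one_apply] at this
    exact mul_inv_eq_iff_eq_mul.1 this
  · intro h
    refine MulEquiv.ext fun n => Subtype.ext ?_
    rw [actHom_apply, h n n.2, mul_inv_cancel_right]
    rfl

include hNO hT hfix hNT in
omit [Finite G] in
theorem mem_centralizer_of_actHom {s : ↥S} (h : actHom hNn s = 1) : (s : G) ∈ centralizer (S : Set G) := by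
  by_contra hc
  refine hNT fun n hn => ?_
  have := hfix s s.2 hc ⟨hNO hn, mem_centralizer_singleton_iff.2 ((actHom_eq_one_iff hNn s).1 h n hn).symm⟩
  exact centralizer_le hT this

include hS hNO hT hfix hNT in
theorem range_unique_involution {p : ℕ} (hp : p.Prime) (hp2 : p ≠ 2) (hN : IsPGroup p N)
    (hlt : ∀ M : Subgroup G, M < N → S ≤ normalizer (M : Set G) → M ≤ centralizer T) :
    ∀ u v : ↥(actHom hNn).range, orderOf u = 2 → orderOf v = 2 → u = v := by
  haveI : Fact (Nat.Prime 2) := ⟨Nat.prime_two⟩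
  haveI : Fact p.Prime := ⟨hp⟩
  set φ := actHom hNn with hφ
  -- an involution of the action fixes only points fixed by `T`
  have step : ∀ q ∈ φ.range, q ≠ 1 → ∀ n : ↥N, q n = n → (n : G) ∈ centralizer T := by
    rintro _ ⟨s, rfl⟩ hs1 n hn
    have hn' : (s : G) * n = n * s := by
      have := congrArg Subtype.val hn
      rw [actHom_apply] at this
      exact mul_inv_eq_iff_eq_mul.1 this
    have hnc : (n : G) ∈ centralizer ({(s : G)} : Set G) := mem_centralizer_singleton_iff.2 hn'.symm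
    by_cases hc : (s : G) ∈ centralizer (S : Set G)
    · have key : ∀ t ∈ S, ∀ m ∈ N ⊓ centralizer ({(s : G)} : Set G),
          t * m * t⁻¹ ∈ N ⊓ centralizer ({(s : G)} : Set G) := by
        intro t ht m hm
        refine ⟨(mem_normalizer_iff.1 (hNn ht) m).1 hm.1, mem_centralizer_singleton_iff.2 ?_⟩
        have hct : Commute t (s : G) := mem_centralizer_iff.1 hc t ht
        have hms : Commute m (s : G) := mem_centralizer_singleton_iff.1 hm.2
        exact ((hct.mul_left hms).mul_left hct.inv_left).eq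
      have hinv : S ≤ normalizer ((N ⊓ centralizer ({(s : G)} : Set G) : Subgroup G) : Set G) := by
        refine fun t ht => mem_normalizer_iff.2 fun m => ⟨key t ht m, fun hm => ?_⟩
        have := key t⁻¹ (inv_mem ht) _ hm
        rwa [show t⁻¹ * (t * m * t⁻¹) * t⁻¹⁻¹ = m by group] at this
      refine hlt _ (lt_of_le_of_ne inf_le_left fun e => hs1 ((actHom_eq_one_iff hNn s).2 ?_)) hinv
        ⟨n.2, hnc⟩
      intro m hm
      rw [← e] at hm
      exact (mem_centralizer_singleton_iff.1 hm.2).symm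
    · exact centralizer_le hT (hfix s s.2 hc ⟨hNO n.2, hnc⟩)
  -- no four-group
  have key : ∀ u z : ↥φ.range, u ≠ 1 → z ≠ 1 → u * u = 1 → z * z = 1 → u * z = z * u → u = z := by
    intro u z hu hz hu2 hz2 huz
    by_contra hne
    have huz1 : u * z ≠ 1 := fun e => hne ((eq_inv_of_mul_eq_one_left e).trans
      (inv_eq_of_mul_eq_one_right hz2))
    have hne' : ∀ w : ↥φ.range, w ≠ 1 → (w : MulAut ↥N) ≠ 1 := fun w hw e => hw (Subtype.ext e)
    haveI : Group.IsNilpotent N := hN.isNilpotent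
    refine hNT fun n hn => ?_
    obtain ⟨b, a, a', hb, ha, ha', he⟩ := HallFour.decomposition
      (HallFour.odd_card_of_isPGroup hp2 hN) (u : MulAut ↥N).toMonoidHom (z : MulAut ↥N).toMonoidHom
      (fun x => congrArg (fun w : ↥φ.range => (w : MulAut ↥N) x) hu2)
      (fun x => congrArg (fun w : ↥φ.range => (w : MulAut ↥N) x) hz2)
      (fun x => congrArg (fun w : ↥φ.range => (w : MulAut ↥N) x) huz) ⟨n, hn⟩
    have e := congrArg Subtype.val he
    simp only [Subgroup.coe_mul] at e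
    rw [show n = _ from e]
    exact mul_mem (mul_mem (step _ (u * z).2 (hne' _ huz1) b hb) (step _ u.2 (hne' _ hu) a ha))
      (step _ z.2 (hne' _ hz) a' ha')
  have hR : IsPGroup 2 ↥φ.range := hS.of_surjective φ.rangeRestrict φ.rangeRestrict_surjective
  intro u v hu hv
  haveI : Nontrivial ↥φ.range := nontrivial_of_ne u 1 fun e => by rw [e, orderOf_one] at hu; omega
  haveI := hR.center_nontrivial
  obtain ⟨z, hz⟩ := exists_prime_orderOf_dvd_card' (G := ↥(Subgroup.center ↥φ.range)) 2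
    ((hR.to_subgroup _).card_eq_or_dvd.resolve_left (Finite.one_lt_card.ne'))
  have hz' : orderOf (z : ↥φ.range) = 2 := by rw [Subgroup.orderOf_coe, hz]
  have sq : ∀ w : ↥φ.range, orderOf w = 2 → w ≠ 1 ∧ w * w = 1 := fun w hw =>
    ⟨fun e => by rw [e, orderOf_one] at hw; omega, by rw [← sq, ← hw]; exact pow_orderOf_eq_one w⟩
  have h1 : ∀ w : ↥φ.range, orderOf w = 2 → w = z := fun w hw =>
    key w z (sq w hw).1 (sq _ hz').1 (sq w hw).2 (sq _ hz').2 (Subgroup.mem_center_iff.1 z.2 w)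
  exact (h1 u hu).trans (h1 v hv).symm

include hS hNO hT hfix hNT in
/-- The shape of the action: it is cyclic and `S` is abelian, or it is of quaternion shape. -/
theorem shape {p : ℕ} (hp : p.Prime) (hp2 : p ≠ 2) (hN : IsPGroup p N)
    (hlt : ∀ M : Subgroup G, M < N → S ≤ normalizer (M : Set G) → M ≤ centralizer T) :
    (∀ x ∈ S, x ∈ centralizer (S : Set G)) ∨
      ∃ a : ↥S, 4 ∣ orderOf (actHom hNn a) ∧
        (∀ s : ↥S, ∀ t : ↥S, (∀ i : ℤ, actHom hNn s ≠ actHom hNn a ^ i) →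
          (∀ i : ℤ, actHom hNn t ≠ actHom hNn a ^ i) →
            ∃ i : ℤ, actHom hNn (s * t) = actHom hNn a ^ i) ∧
        (∃ t : ↥S, ∀ i : ℤ, actHom hNn t ≠ actHom hNn a ^ i) ∧
        ∀ t : ↥S, (∀ i : ℤ, actHom hNn t ≠ actHom hNn a ^ i) →
          actHom hNn (t * a * t⁻¹) = (actHom hNn a)⁻¹ := by
  set φ := actHom hNn with hφ
  have hR : IsPGroup 2 ↥φ.range := hS.of_surjective φ.rangeRestrict φ.rangeRestrict_surjective
  have hker : ∀ s : ↥S, φ s = 1 → (s : G) ∈ centralizer (S : Set G) := fun s =>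
    mem_centralizer_of_actHom hNO hNn hT hfix hNT
  rcases OneInvol.cyclic_or_quatShape hR (range_unique_involution hS hNO hNn hT hfix hNT hp hp2 hN hlt)
    with hc | ⟨a, ha4, hidx, hinv⟩
  · left
    obtain ⟨g, hg⟩ := hc.exists_generator
    obtain ⟨g₀, hg₀⟩ := φ.rangeRestrict_surjective g
    -- every element is a power of `g₀` times a central one
    have hdec : ∀ s : ↥S, ∃ i : ℤ, (((g₀ ^ i)⁻¹ * s : ↥S) : G) ∈ centralizer (S : Set G) := fun s => by
      obtain ⟨i, hi⟩ := Subgroup.mem_zpowers_iff.1 (hg (φ.rangeRestrict s))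
      refine ⟨i, hker _ ?_⟩
      have h := congrArg Subtype.val hi
      rw [← hg₀] at h
      simp only [SubgroupClass.coe_zpow, MonoidHom.coe_rangeRestrict] at h
      rw [map_mul, map_inv, map_zpow, h, inv_mul_cancel]
    intro x hx
    refine mem_centralizer_iff.2 fun y hy => ?_
    obtain ⟨i, hi⟩ := hdec ⟨x, hx⟩
    obtain ⟨j, hj⟩ := hdec ⟨y, hy⟩
    have e1 : Commute (⟨y, hy⟩ : ↥S) ((g₀ ^ i)⁻¹ * ⟨x, hx⟩) :=
      Subtype.ext (mem_centralizer_iff.1 hi y hy)
    have e2 : Commute (g₀ ^ i) ((g₀ ^ j)⁻¹ * ⟨y, hy⟩) :=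
      Subtype.ext (mem_centralizer_iff.1 hj _ (g₀ ^ i).2)
    have e3 : Commute (g₀ ^ i) (⟨y, hy⟩ : ↥S) := by
      have := ((Commute.refl g₀).zpow_zpow i j).mul_right e2
      rwa [mul_inv_cancel_left] at this
    have h4 : Commute (⟨y, hy⟩ : ↥S) (g₀ ^ i * ((g₀ ^ i)⁻¹ * ⟨x, hx⟩)) := e3.symm.mul_right e1
    rw [mul_inv_cancel_left] at h4
    exact congrArg Subtype.val h4.eq
  · right
    obtain ⟨a₀, rfl⟩ := φ.rangeRestrict_surjective a
    have hmem : ∀ s : ↥S, φ.rangeRestrict s ∈ Subgroup.zpowers (φ.rangeRestrict a₀) ↔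
        ∃ i : ℤ, φ s = φ a₀ ^ i := by
      intro s
      constructor
      · intro h
        obtain ⟨i, hi⟩ := Subgroup.mem_zpowers_iff.1 h
        exact ⟨i, by rw [← MonoidHom.coe_rangeRestrict φ s, ← hi]; rfl⟩
      · rintro ⟨i, hi⟩
        exact Subgroup.mem_zpowers_iff.2 ⟨i, Subtype.ext hi.symm⟩
    refine ⟨a₀, ?_, fun s t hs ht => ?_, ?_, fun t ht => ?_⟩
    · rwa [← Subgroup.orderOf_coe, MonoidHom.coe_rangeRestrict] at ha4
    · rw [← hmem, map_mul, Subgroup.mul_mem_iff_of_index_two hidx]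
      exact iff_of_false (fun h => ((hmem s).1 h).elim hs) (fun h => ((hmem t).1 h).elim ht)
    · by_contra hall
      push Not at hall
      have : Subgroup.zpowers (φ.rangeRestrict a₀) = ⊤ := eq_top_iff.2 fun w _ => by
        obtain ⟨s, rfl⟩ := φ.rangeRestrict_surjective w
        exact (hmem s).2 (hall s)
      rw [this, Subgroup.index_top] at hidx
      omega
    · have := congrArg Subtype.val (hinv _ fun h => ((hmem t).1 h).elim ht)
      simpa using this

end

variable {S O : Subgroup G} (hS : IsPGroup 2 S) (hO : Odd (Nat.card O))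
  (hn : S ≤ normalizer (O : Set G)) (hnc : ¬ S ≤ centralizer (O : Set G))
  (hfix : ∀ x ∈ S, x ∉ centralizer (S : Set G) → O ⊓ centralizer ({x} : Set G) ≤ centralizer (S : Set G))

include hS hO hn hnc hfix in
/-- The derived subgroup of `S` is cyclic. -/
theorem isCyclic_commutator : IsCyclic (⁅S, S⁆ : Subgroup G) := by
  obtain ⟨p, N, hp, hp2, hN, hNO, hNn, hNT, hlt⟩ := exists_minimal (T := (S : Set G)) hS hO hn
    fun h => hnc (le_centralizer_iff.1 h)
  rcases shape hS hNO hNn subset_rfl hfix hNT hp hp2 hN hlt with hab | ⟨a, -, hmul, ⟨t, ht⟩, hinv⟩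
  · rw [commutator_eq_bot_iff_le_centralizer.2 hab]
    infer_instance
  set φ := actHom hNn with hφ
  have hker : ∀ s : ↥S, φ s = 1 → ∀ r : ↥S, r * s = s * r := fun s hs r => Subtype.ext
    (mem_centralizer_iff.1 (mem_centralizer_of_actHom hNO hNn subset_rfl hfix hNT hs) r r.2)
  have hdec : ∀ s : ↥S, (∃ i : ℤ, φ s = φ a ^ i) →
      ∃ (i : ℤ) (k : ↥S), φ k = 1 ∧ s = a ^ i * k := by
    rintro s ⟨i, hi⟩
    exact ⟨i, (a ^ i)⁻¹ * s, by rw [map_mul, map_inv, map_zpow, hi, inv_mul_cancel],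
      (mul_inv_cancel_left _ _).symm⟩
  -- `c = [t, a]` generates the derived subgroup
  obtain ⟨c, hc⟩ : ∃ c : ↥S, c = t * a * t⁻¹ * a⁻¹ := ⟨_, rfl⟩
  obtain ⟨j, k, hk, hck⟩ : ∃ (j : ℤ) (k : ↥S), φ k = 1 ∧ c = a ^ j * k := hdec c ⟨-1 + -1, by
    rw [hc, map_mul, hinv t ht, map_inv, zpow_add, zpow_neg_one]⟩
  have hac : Commute a c := by
    rw [hck]; exact ((Commute.refl a).zpow_right j).mul_right (hker k hk a)
  have hta : t * a * t⁻¹ = c * a := by rw [hc]; group
  have htc : t * c * t⁻¹ = c ^ j * c := by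
    have e : ∀ i : ℤ, t * a ^ i * t⁻¹ = c ^ i * a ^ i := fun i => by
      rw [← conj_zpow, hta, hac.symm.mul_zpow]
    calc t * c * t⁻¹ = (t * a ^ j * t⁻¹) * (t * k * t⁻¹) := by rw [hck]; group
      _ = _ := by rw [e, hker k hk t, mul_inv_cancel_right, mul_assoc, ← hck]
  have hgen : ∀ s : ↥S, ∃ (k : ↥S) (i : ℤ), φ k = 1 ∧ (s = a ^ i * k ∨ s = t⁻¹ * (a ^ i * k)) := by
    intro s
    by_cases h : ∃ i : ℤ, φ s = φ a ^ i
    · obtain ⟨i, k', hk', e⟩ := hdec s h
      exact ⟨k', i, hk', Or.inl e⟩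
    · push Not at h
      obtain ⟨i, k', hk', e⟩ := hdec (t * s) (hmul t s ht h)
      exact ⟨k', i, hk', Or.inr (by rw [← e, inv_mul_cancel_left])⟩
  have hstab : ∀ s : ↥S, s * c * s⁻¹ ∈ zpowers c := by
    intro s
    obtain ⟨k', i, hk', e⟩ := hgen s
    have e1 : (a ^ i * k') * c * (a ^ i * k')⁻¹ = c := by
      have h1 : Commute (a ^ i * k') c := (hac.zpow_left i).mul_left (hker k' hk' c).symm
      rw [h1.eq, mul_inv_cancel_right]
    have e2 : t⁻¹ * c * t ∈ zpowers c := by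
      have hN' : t ∈ normalizer (zpowers c : Set ↥S) := by
        refine mem_normalizer_fintype ?_
        rintro _ ⟨i, rfl⟩
        show t * c ^ i * t⁻¹ ∈ zpowers c
        rw [← conj_zpow, htc]
        exact zpow_mem (mul_mem (zpow_mem (mem_zpowers c) j) (mem_zpowers c)) i
      have := (mem_normalizer_iff.1 (inv_mem hN') c).1 (mem_zpowers c)
      rwa [inv_inv] at this
    rcases e with rfl | rfl
    · rw [e1]; exact mem_zpowers c
    · rw [show t⁻¹ * (a ^ i * k') * c * (t⁻¹ * (a ^ i * k'))⁻¹ =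
        t⁻¹ * ((a ^ i * k') * c * (a ^ i * k')⁻¹) * t by group, e1]
      exact e2
  haveI : (zpowers c).Normal := ⟨by
    rintro _ ⟨i, rfl⟩ g
    show g * c ^ i * g⁻¹ ∈ zpowers c
    rw [← conj_zpow]
    exact zpow_mem (hstab g) i⟩
  have hle : commutator ↥S ≤ zpowers c := by
    rw [_root_.commutator_def, commutator_le]
    intro x _ y _
    rw [← QuotientGroup.eq_one_iff, ← QuotientGroup.mk'_apply, map_commutatorElement,
      commutatorElement_eq_one_iff_mul_comm]
    set π := QuotientGroup.mk' (zpowers c)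
    have hπat : Commute (π t) (π a) := by
      show π t * π a = π a * π t
      have h : π (t * a * t⁻¹ * a⁻¹) = 1 := by
        rw [← hc]; exact (QuotientGroup.eq_one_iff c).2 (mem_zpowers c)
      rw [map_mul, map_mul, map_mul, map_inv, map_inv, mul_inv_eq_one, mul_inv_eq_iff_eq_mul] at h
      exact h
    have hcen : ∀ k' : ↥S, φ k' = 1 → ∀ r : ↥S, Commute (π r) (π k') := fun k' hk' r =>
      (show Commute r k' from hker k' hk' r).map π
    -- generators of the quotient commute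
    have hall : ∀ s : ↥S, Commute (π t) (π s) ∧ Commute (π a) (π s) := by
      intro s
      obtain ⟨k', i, hk', e | e⟩ := hgen s <;> subst e <;>
        simp only [map_mul, map_inv, map_zpow]
      · exact ⟨(hπat.zpow_right i).mul_right (hcen k' hk' t),
          ((Commute.refl _).zpow_right i).mul_right (hcen k' hk' a)⟩
      · exact ⟨(Commute.refl _).inv_right.mul_right ((hπat.zpow_right i).mul_right (hcen k' hk' t)),
          hπat.symm.inv_right.mul_right (((Commute.refl _).zpow_right i).mul_right (hcen k' hk' a))⟩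
    obtain ⟨k', i, hk', e | e⟩ := hgen x <;> subst e <;> simp only [map_mul, map_inv, map_zpow]
    · exact (((hall y).2.zpow_left i).mul_left (hcen k' hk' y).symm).eq
    · exact ((hall y).1.inv_left.mul_left (((hall y).2.zpow_left i).mul_left (hcen k' hk' y).symm)).eq
  haveI : IsCyclic ↥(commutator ↥S) := Subgroup.isCyclic_of_le hle
  have hmap : (commutator ↥S).map S.subtype = ⁅S, S⁆ := by
    rw [_root_.commutator_def, Subgroup.map_commutator, ← MonoidHom.range_eq_map, Subgroup.range_subtype]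
  rw [← hmap]
  exact isCyclic_of_surjective _
    ((commutator ↥S).equivMapOfInjective _ S.subtype_injective).surjective

include hS hO hn hnc hfix in
/-- The square of an element outside `C(S)` moves `O`. -/
theorem sq_not_mem_centralizer {x : G} (hx : x ∈ S) (hxc : x ∉ centralizer (S : Set G)) :
    x ^ 2 ∉ centralizer (O : Set G) := by
  intro hx2
  obtain ⟨p, N, hp, hp2, hN, hNO, hNn, hNT, hlt⟩ := exists_minimal (T := (S : Set G)) hS hO hn
    fun h => hnc (le_centralizer_iff.1 h)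
  rcases shape hS hNO hNn subset_rfl hfix hNT hp hp2 hN hlt with hab | ⟨a, ha4, hmul, ⟨t, ht⟩, hinv⟩
  · exact hxc (hab x hx)
  set φ := actHom hNn with hφ
  have hker : ∀ s : ↥S, φ s = 1 → (s : G) ∈ centralizer (S : Set G) := fun s =>
    mem_centralizer_of_actHom hNO hNn subset_rfl hfix hNT
  have hx1 : φ ⟨x, hx⟩ ≠ 1 := fun e => hxc (hker _ e)
  have hxx : φ ⟨x, hx⟩ * φ ⟨x, hx⟩ = 1 := by
    rw [← map_mul, actHom_eq_one_iff]
    intro n hn'
    rw [show ((⟨x, hx⟩ * ⟨x, hx⟩ : ↥S) : G) = x ^ 2 from (pow_two x).symm]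
    exact (mem_centralizer_iff.1 hx2 n (hNO hn')).symm
  have uniq : ∀ u v : ↥S, φ u ≠ 1 → φ u * φ u = 1 → φ v ≠ 1 → φ v * φ v = 1 → φ u = φ v := by
    intro u v h1 h2 h3 h4
    have hord : ∀ w : ↥S, φ w ≠ 1 → φ w * φ w = 1 → orderOf (φ.rangeRestrict w) = 2 := fun w h h' => by
      rw [← Subgroup.orderOf_coe, MonoidHom.coe_rangeRestrict]
      exact orderOf_eq_prime (by rw [pow_two]; exact h') h
    exact congrArg Subtype.val (range_unique_involution hS hNO hNn subset_rfl hfix hNT hp hp2 hN hlt _ _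
      (hord u h1 h2) (hord v h3 h4))
  -- `t ^ 2` is central and gives the involution
  obtain ⟨i, hi⟩ := hmul t t ht ht
  obtain ⟨k, hk, hdec⟩ : ∃ k : ↥S, φ k = 1 ∧ t * t = a ^ i * k :=
    ⟨(a ^ i)⁻¹ * (t * t), by rw [map_mul, map_inv, map_zpow, hi, inv_mul_cancel],
      (mul_inv_cancel_left _ _).symm⟩
  have htt : (φ (t * t)) * φ (t * t) = 1 := by
    have e1 : φ t * φ (t * t) * (φ t)⁻¹ = (φ (t * t))⁻¹ := by
      have e0 := hinv t ht
      rw [map_mul, map_mul, map_inv] at e0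
      rw [hi, ← conj_zpow, e0, inv_zpow]
    have e2 : φ t * φ (t * t) * (φ t)⁻¹ = φ (t * t) := by rw [map_mul]; group
    rw [e2] at e1
    exact eq_inv_iff_mul_eq_one.1 e1
  have ht1 : φ (t * t) ≠ 1 := by
    intro e
    -- else `φ t` would be the involution in `⟨φ a⟩`
    obtain ⟨m, hm⟩ := ha4
    have hm0 : 0 < m := by
      have := orderOf_pos (φ a)
      omega
    have hpa : φ (a ^ (2 * m)) ≠ 1 := by
      rw [map_pow, Ne, ← orderOf_dvd_iff_pow_eq_one, hm]
      intro h
      have := Nat.le_of_dvd (by omega) h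
      omega
    have hpa2 : φ (a ^ (2 * m)) * φ (a ^ (2 * m)) = 1 := by
      rw [map_pow, ← pow_add, show 2 * m + 2 * m = 4 * m by omega, ← hm, pow_orderOf_eq_one]
    have htne : φ t ≠ 1 := fun e' => ht 0 (by rw [e', zpow_zero])
    have := uniq t (a ^ (2 * m)) htne (by rw [← map_mul]; exact e) hpa hpa2
    exact ht (2 * m : ℕ) (by rw [this, map_pow, zpow_natCast])
  have hcent : ((t * t : ↥S) : G) ∈ centralizer (S : Set G) := by
    refine mem_centralizer_iff.2 fun s hs => congrArg Subtype.val (?_ : (⟨s, hs⟩ : ↥S) * (t * t) = t * t * ⟨s, hs⟩)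
    set s' : ↥S := ⟨s, hs⟩
    have hkc : ∀ r : ↥S, φ r = 1 → ∀ r' : ↥S, Commute r' r := fun r hr r' =>
      Subtype.ext (mem_centralizer_iff.1 (hker r hr) r' r'.2)
    have h1 : ∀ u : ↥S, (∃ j : ℤ, φ u = φ a ^ j) → Commute u (t * t) := by
      rintro u ⟨j, hj⟩
      have hu : u = a ^ j * ((a ^ j)⁻¹ * u) := (mul_inv_cancel_left _ _).symm
      have hr : φ ((a ^ j)⁻¹ * u) = 1 := by rw [map_mul, map_inv, map_zpow, hj, inv_mul_cancel]
      rw [hu, hdec]
      exact (((Commute.refl a).zpow_zpow j i).mul_right (hkc k hk _)).mul_left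
        (hkc _ hr (a ^ i * k)).symm
    by_cases hsA : ∃ j : ℤ, φ s' = φ a ^ j
    · exact h1 s' hsA
    · push Not at hsA
      have h2 := h1 (t * s') (hmul t s' ht hsA)
      have h3 : Commute t (t * t) := (Commute.refl t).mul_right (Commute.refl t)
      have := h3.inv_left.mul_left h2
      rwa [inv_mul_cancel_left] at this
  have hfin : (((t * t)⁻¹ * ⟨x, hx⟩ : ↥S) : G) ∈ centralizer (S : Set G) := hker _ (by
    rw [map_mul, map_inv, uniq ⟨x, hx⟩ (t * t) hx1 hxx ht1 htt, inv_mul_cancel])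
  refine hxc ?_
  have := mul_mem hcent hfin
  rwa [← Subgroup.coe_mul, mul_inv_cancel_left] at this

include hS hO hn hfix in
/-- If the derived subgroup has order two, fourth powers centralise `O`. -/
theorem pow_four_mem_centralizer (h2 : Nat.card (⁅S, S⁆ : Subgroup G) = 2) {x : G} (hx : x ∈ S) :
    x ^ 4 ∈ centralizer (O : Set G) := by
  set T : Set G := (fun s => s ^ 4) '' (S : Set G) with hTdef
  by_cases hT : O ≤ centralizer T
  · exact mem_centralizer_iff.2 fun o ho => (mem_centralizer_iff.1 (hT ho) _ ⟨x, hx, rfl⟩).symm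
  exfalso
  have hTS : T ⊆ S := by
    rintro _ ⟨s, hs, rfl⟩
    exact pow_mem hs 4
  obtain ⟨p, N, hp, hp2, hN, hNO, hNn, hNT, hlt⟩ := exists_minimal hS hO hn hT
  rcases shape hS hNO hNn hTS hfix hNT hp hp2 hN hlt with hab | ⟨a, ha4, hmul, ⟨t, ht⟩, hinv⟩
  · rw [commutator_eq_bot_iff_le_centralizer.2 hab, Subgroup.card_bot] at h2
    omega
  set φ := actHom hNn with hφ
  have hconj : φ t * φ a * (φ t)⁻¹ = (φ a)⁻¹ := by
    have := hinv t ht
    simpa [map_mul] using this
  have ha : φ a ^ 4 = 1 := by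
    have hmem : ((⁅t, a⁆ : ↥S) : G) ∈ ⁅S, S⁆ := commutator_mem_commutator t.2 a.2
    have hsq : (⁅t, a⁆ : ↥S) ^ 2 = 1 := Subtype.ext (by
      rw [SubgroupClass.coe_pow, ← h2]
      exact congrArg Subtype.val (pow_card_eq_one' (x := (⟨_, hmem⟩ : (⁅S, S⁆ : Subgroup G)))))
    have := congrArg φ hsq
    rw [map_pow, map_one, map_commutatorElement, commutatorElement_def, hconj] at this
    rw [← inv_eq_one, ← this]
    group
  have hout : ∀ s : ↥S, (∀ i : ℤ, φ s ≠ φ a ^ i) → φ s ^ 4 = 1 := by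
    intro s hs
    obtain ⟨i, hi⟩ := hmul s s hs hs
    have e1 : φ s * φ (s * s) * (φ s)⁻¹ = (φ (s * s))⁻¹ := by
      have e0 := hinv s hs
      rw [map_mul, map_mul, map_inv] at e0
      rw [hi, ← conj_zpow, e0, inv_zpow]
    have e2 : φ s * φ (s * s) * (φ s)⁻¹ = φ (s * s) := by rw [map_mul]; group
    rw [e2, eq_inv_iff_mul_eq_one, map_mul] at e1
    rw [← e1, pow_succ, pow_succ, pow_two, mul_assoc]
  refine hNT fun n hn' => mem_centralizer_iff.2 ?_
  rintro _ ⟨s, hs, rfl⟩
  refine (actHom_eq_one_iff hNn ((⟨s, hs⟩ : ↥S) ^ 4)).1 ?_ n hn'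
  rw [map_pow]
  by_cases h : ∃ i : ℤ, φ ⟨s, hs⟩ = φ a ^ i
  · obtain ⟨i, hi⟩ := h
    rw [hi, ← zpow_natCast, zpow_comm, zpow_natCast, ha, one_zpow]
  · push Not at h
    exact hout _ h

end Cfsg.Agent.Invol.CentInt
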