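import Cfsg.Agent.Lib.Invol.CentInt.Basic
import Cfsg.Agent.Lib.Invol.CentInt.OddAction
import Cfsg.Agent.Lib.Grp.Cores

/-!
# What the induction hypothesis says about a Sylow 2-subgroup

Either the group is the product of its odd core with the normaliser of `S`, or `S' = ⟨z⟩` and some element
outside `Z(S)` squares into `S'`, or `S'` is not cyclic and either its involutions are conjugate or some
involution of `S` is outside `Z(S)`.
-/

set_option autoImplicit false
set_option linter.style.haveILetI false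

open Subgroup

namespace Cfsg.Agent.Invol.CentInt

variable {G : Type*} [Group G]

/-- The three possibilities. -/
def Inner (S : Sylow 2 G) : Prop :=
  (Cfsg.pPrimeCore 2 G ⊔ normalizer ((S : Subgroup G) : Set G) = ⊤) ∨
    (Nat.card ↥⁅(S : Subgroup G), (S : Subgroup G)⁆ = 2 ∧
      ∃ x ∈ (S : Subgroup G), x ∉ zc S ∧ x * x ∈ ⁅(S : Subgroup G), (S : Subgroup G)⁆) ∨
    (¬ IsCyclic ↥⁅(S : Subgroup G), (S : Subgroup G)⁆ ∧
      ((∀ σ ∈ ⁅(S : Subgroup G), (S : Subgroup G)⁆, ∀ τ ∈ ⁅(S : Subgroup G), (S : Subgroup G)⁆,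
          σ ≠ 1 → τ ≠ 1 → ∃ g : G, g * σ * g⁻¹ = τ) ∨
        ∃ u ∈ (S : Subgroup G), u ∉ zc S ∧ u * u = 1))

theorem map_subtype_subtype {K : Subgroup G} {S : Sylow 2 G} (hSK : (S : Subgroup G) ≤ K) :
    ((S.subtype hSK : Sylow 2 K) : Subgroup K).map K.subtype = (S : Subgroup G) :=
  map_subgroupOf_eq_of_le hSK

theorem map_commutator_subtype {K : Subgroup G} {S : Sylow 2 G} (hSK : (S : Subgroup G) ≤ K) :
    ⁅((S.subtype hSK : Sylow 2 K) : Subgroup K), ((S.subtype hSK : Sylow 2 K) : Subgroup K)⁆.map K.subtype =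
      ⁅(S : Subgroup G), (S : Subgroup G)⁆ := by
  rw [map_commutator, map_subtype_subtype]

theorem mem_zc_subtype {K : Subgroup G} {S : Sylow 2 G} (hSK : (S : Subgroup G) ≤ K) {x : K} :
    x ∈ zc (S.subtype hSK) ↔ (x : G) ∈ zc S := by
  simp only [mem_zc]
  constructor
  · rintro ⟨h1, h2⟩
    exact ⟨h1, fun s hs => congrArg Subtype.val (h2 ⟨s, hSK hs⟩ hs)⟩
  · rintro ⟨h1, h2⟩
    exact ⟨h1, fun s hs => Subtype.ext (h2 s hs)⟩

/-- The normaliser of `S` preserves `S'`. -/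
theorem conj_mem_derived' {S : Sylow 2 G} {n σ : G} (hn : n ∈ normalizer ((S : Subgroup G) : Set G))
    (hσ : σ ∈ ⁅(S : Subgroup G), (S : Subgroup G)⁆) : n * σ * n⁻¹ ∈ ⁅(S : Subgroup G), (S : Subgroup G)⁆ := by
  have hmap : (S : Subgroup G).map (MulAut.conj n).toMonoidHom = (S : Subgroup G) := by
    refine le_antisymm ?_ fun s hs => ⟨n⁻¹ * s * n, ?_, by simp [mul_assoc]⟩
    · rintro _ ⟨s, hs, rfl⟩
      exact mem_normalizer_conj_mem hn hs
    · have := mem_normalizer_conj_mem (inv_mem hn) hs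
      rwa [inv_inv] at this
  have h2 : ⁅(S : Subgroup G), (S : Subgroup G)⁆.map (MulAut.conj n).toMonoidHom =
      ⁅(S : Subgroup G), (S : Subgroup G)⁆ := by rw [map_commutator, hmap]
  rw [← h2]
  exact ⟨σ, hσ, rfl⟩

variable [Finite G]

/-- `S` fixes nothing new on an odd group it normalises. -/
theorem odd_fix (hCI : CI G) {S : Sylow 2 G} {O : Subgroup G} (hO : Odd (Nat.card O))
    (hn : (S : Subgroup G) ≤ normalizer (O : Set G)) :
    ∀ y ∈ (S : Subgroup G), y ∉ centralizer ((S : Subgroup G) : Set G) →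
      O ⊓ centralizer {y} ≤ centralizer ((S : Subgroup G) : Set G) := by
  intro y hyS hy o ho
  have hoN := centralizer_le_normalizer hCI hyS (fun hz => hy hz.2) ho.2
  refine mem_centralizer_iff.2 fun s hs => ?_
  have h1 : o * s * o⁻¹ * s⁻¹ ∈ O ⊓ (S : Subgroup G) :=
    ⟨by rw [show o * s * o⁻¹ * s⁻¹ = o * (s * o⁻¹ * s⁻¹) by group]
        exact mul_mem ho.1 ((mem_normalizer_iff.1 (hn hs) _).1 (inv_mem ho.1)),
      mul_mem (mem_normalizer_conj_mem hoN hs) ((S : Subgroup G).inv_mem hs)⟩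
  have hbot : O ⊓ (S : Subgroup G) = ⊥ := inf_eq_bot_of_coprime (by
    haveI : Fact (Nat.Prime 2) := ⟨Nat.prime_two⟩
    obtain ⟨k, hk⟩ := IsPGroup.iff_card.1 S.isPGroup'
    rw [hk]
    exact (Nat.coprime_two_right.2 hO).pow_right k)
  rw [hbot, mem_bot] at h1
  have e : o * s * o⁻¹ = s := by rw [← mul_inv_eq_one]; exact h1
  exact (mul_inv_eq_iff_eq_mul.1 e).symm

/-- With `S'` not cyclic, `S` centralises every odd subgroup it normalises. -/
theorem le_centralizer_of_odd (hCI : CI G) {S : Sylow 2 G}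
    (hc : ¬ IsCyclic ↥⁅(S : Subgroup G), (S : Subgroup G)⁆) {O : Subgroup G} (hO : Odd (Nat.card O))
    (hn : (S : Subgroup G) ≤ normalizer (O : Set G)) : (S : Subgroup G) ≤ centralizer (O : Set G) := by
  haveI : Fact (Nat.Prime 2) := ⟨Nat.prime_two⟩
  by_contra hnc
  exact hc (isCyclic_commutator S.isPGroup' hO hn hnc (odd_fix hCI hO hn))

/-- With `S'` not cyclic, the first possibility means that `S` is normal. -/
theorem normalizer_eq_top_of_split (hCI : CI G) {S : Sylow 2 G}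
    (hc : ¬ IsCyclic ↥⁅(S : Subgroup G), (S : Subgroup G)⁆)
    (h : Cfsg.pPrimeCore 2 G ⊔ normalizer ((S : Subgroup G) : Set G) = ⊤) :
    normalizer ((S : Subgroup G) : Set G) = ⊤ := by
  haveI : Fact (Nat.Prime 2) := ⟨Nat.prime_two⟩
  haveI : (Cfsg.pPrimeCore 2 G).Normal := Grp.pPrimeCore_isNormal
  refine eq_top_iff.2 (h.ge.trans (sup_le ?_ le_rfl))
  have h2 := le_centralizer_of_odd hCI hc (Nat.coprime_two_right.1 Grp.pPrimeCore_coprime)
    (O := Cfsg.pPrimeCore 2 G) (by rw [normalizer_eq_top]; exact le_top)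
  exact (le_centralizer_iff.1 h2).trans (Subgroup.centralizer_le_normalizer _)

end Cfsg.Agent.Invol.CentInt
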