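import Cfsg.Agent.Lib.Invol.CentInt.Middle
import Cfsg.Agent.Lib.Invol.CentInt.Inner
import Cfsg.Agent.Lib.Invol.ZStarTwoElement

/-!
# The case of a cyclic derived subgroup

Elements of `S' ∩ Z(S)` are central, so either `S'` is central, or an element of `S'` outside `Z(S)` has
central square.  When `S'` is central, `S` centralises the odd groups it normalises.
-/

set_option autoImplicit false
set_option linter.style.haveILetI false

open Subgroup
open scoped commutatorElement

namespace Cfsg.Agent.Invol.CentInt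

variable {M : Type*} [Group M] [Finite M] {S : Sylow 2 M}

/-- A group with few fixed points on an odd group centralised by its derived subgroup centralises it. -/
theorem le_centralizer_of_derived {S O : Subgroup M} (hS : IsPGroup 2 S) (hO : Odd (Nat.card O))
    (hn : S ≤ normalizer (O : Set M)) (hna : ∃ x ∈ S, x ∉ centralizer (S : Set M))
    (hfix : ∀ x ∈ S, x ∉ centralizer (S : Set M) → O ⊓ centralizer ({x} : Set M) ≤ centralizer (S : Set M))
    (hD : ⁅S, S⁆ ≤ centralizer (O : Set M)) : S ≤ centralizer (O : Set M) := by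
  by_contra hnc
  obtain ⟨p, N, hp, hp2, hN, hNO, hNn, hNT, hlt⟩ := exists_minimal (T := (S : Set M)) hS hO hn
    fun h => hnc (le_centralizer_iff.1 h)
  rcases shape hS hNO hNn subset_rfl hfix hNT hp hp2 hN hlt with hab | ⟨a, ha4, -, ⟨t, ht⟩, hinv⟩
  · obtain ⟨x, hx, hxc⟩ := hna
    exact hxc (hab x hx)
  have hca : ((t * a * t⁻¹ * a⁻¹ : ↥S) : M) ∈ ⁅S, S⁆ := commutator_mem_commutator t.2 a.2
  have h1 : actHom hNn (t * a * t⁻¹ * a⁻¹) = 1 := (actHom_eq_one_iff hNn _).2 fun n hn =>
    (mem_centralizer_iff.1 (hD hca) n (hNO hn)).symm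
  rw [map_mul, hinv t ht, map_inv, ← mul_inv_rev, inv_eq_one, ← pow_two, ← orderOf_dvd_iff_pow_eq_one] at h1
  exact absurd (Nat.le_of_dvd two_pos (ha4.trans h1)) (by norm_num)

/-- An element of `S' ∩ Z(S)` is fixed by the normaliser of `S` when `S'` is cyclic. -/
theorem fix_of_cyclic (hc : IsCyclic ↥⁅(S : Subgroup M), (S : Subgroup M)⁆) {v n : M}
    (hv : v ∈ ⁅(S : Subgroup M), (S : Subgroup M)⁆) (hvz : v ∈ zc S)
    (hn : n ∈ normalizer ((S : Subgroup M) : Set M)) : n * v * n⁻¹ = v := by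
  haveI : Fact (Nat.Prime 2) := ⟨Nat.prime_two⟩
  set D := ⁅(S : Subgroup M), (S : Subgroup M)⁆ with hD
  have hDS : D ≤ (S : Subgroup M) := commutator_le_self _
  haveI := hc
  set V := zpowers v with hV
  haveI : IsCyclic ↥V := Subgroup.isCyclic_of_le (zpowers_le.2 hv)
  have hnD : n ∈ normalizer (D : Set M) := mem_normalizer_fintype fun σ hσ => conj_mem_derived' hn hσ
  -- `V` is the only subgroup of `D` of its order
  have hnV : n ∈ normalizer (V : Set M) := by
    have hw : n * v * n⁻¹ ∈ V := by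
      set W := V ⊔ zpowers (n * v * n⁻¹) with hW
      have hWD : W ≤ D := sup_le (zpowers_le.2 hv) (zpowers_le.2 ((mem_normalizer_iff.1 hnD v).1 hv))
      haveI : IsCyclic ↥W := Subgroup.isCyclic_of_le hWD
      have hcard : Nat.card W ∣ orderOf v := by
        rw [← IsCyclic.exponent_eq_card]
        refine Monoid.exponent_dvd_of_forall_pow_eq_one fun y => Subtype.ext ?_
        have hD' : IsMulCommutative ↥D := IsCyclic.isMulCommutative
        let T : Subgroup M :=
          { carrier := {y | y ∈ D ∧ y ^ orderOf v = 1}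
            one_mem' := ⟨one_mem _, one_pow _⟩
            mul_mem' := fun {p q} hp hq => ⟨mul_mem hp.1 hq.1, by
              have hc : Commute p q := congrArg Subtype.val (hD'.is_comm.comm ⟨p, hp.1⟩ ⟨q, hq.1⟩)
              rw [hc.mul_pow, hp.2, hq.2, one_mul]⟩
            inv_mem' := fun {p} hp => ⟨inv_mem hp.1, by rw [inv_pow, hp.2, inv_one]⟩ }
        have hle : W ≤ T := by
          refine sup_le ?_ ?_ <;> rw [zpowers_le]
          · exact ⟨hv, pow_orderOf_eq_one v⟩
          · exact ⟨(mem_normalizer_iff.1 hnD v).1 hv, by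
              rw [conj_pow, pow_orderOf_eq_one, mul_one, mul_inv_cancel]⟩
        exact (hle y.2).2
      have hWV : V = W := Subgroup.eq_of_le_of_card_ge le_sup_left
        (Nat.le_of_dvd (Nat.card_pos) (by rw [Nat.card_zpowers]; exact hcard))
      rw [hWV]
      exact mem_sup_right (mem_zpowers _)
    refine mem_normalizer_fintype fun y hy => ?_
    obtain ⟨i, rfl⟩ := mem_zpowers_iff.1 hy
    rw [← conj_zpow]
    exact zpow_mem hw i
  obtain ⟨a, m, hm, hord⟩ := Nat.exists_eq_two_pow_mul_odd (orderOf_pos n).ne'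
  have hnm : n ^ m ∈ (S : Subgroup M) := two_elem_mem_sylow (n := a)
    (by rw [orderOf_pow, hord, Nat.gcd_eq_right (dvd_mul_left m _), Nat.mul_div_cancel _ hm.pos]) (pow_mem hn m)
  let α : MulAut ↥V := V.normalizerMonoidHom ⟨n, hnV⟩
  have hαm : α ^ m = 1 := by
    show (V.normalizerMonoidHom ⟨n, hnV⟩) ^ m = 1
    rw [← map_pow]
    refine MulEquiv.ext fun y => Subtype.ext ?_
    show n ^ m * (y : M) * (n ^ m)⁻¹ = y
    obtain ⟨i, hi⟩ := mem_zpowers_iff.1 y.2
    rw [← hi, ((show Commute (n ^ m) v from mem_zc_of_commute hvz hnm).zpow_right i).eq, mul_inv_cancel_right]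
  obtain ⟨k, hk⟩ := IsPGroup.iff_card.1 (S.isPGroup'.to_le ((zpowers_le.2 hv).trans hDS))
  have hα : α = 1 := by
    refine orderOf_eq_one_iff.1 (Nat.eq_one_of_dvd_coprimes ?_ (orderOf_dvd_of_pow_eq_one hαm)
      (orderOf_dvd_natCard α))
    rw [IsCyclic.card_mulAut, hk]
    rcases k.eq_zero_or_pos with rfl | hk0
    · simp
    · rw [Nat.totient_prime_pow Nat.prime_two hk0]
      simpa using (Nat.coprime_two_right.2 hm).pow_right _
  have := congrArg (fun e : MulAut ↥V => ((e ⟨v, mem_zpowers v⟩ : ↥V) : M)) hα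
  exact this

theorem mem_center_of_fix (hgen : Cfsg.pElementClosure 2 (⊤ : Subgroup M) = ⊤)
    (hO : Cfsg.pPrimeCore 2 M = ⊥) (hCI : CI M) {v : M} (hv : v ∈ (S : Subgroup M))
    (hfix : ∀ n ∈ normalizer ((S : Subgroup M) : Set M), n * v * n⁻¹ = v) : v ∈ center M := by
  have huniq : ∀ g : M, g * v * g⁻¹ ∈ (S : Subgroup M) → g * v * g⁻¹ = v := fun g hg => by
    obtain ⟨n, hn, he⟩ := exists_normalizer_conj hCI hv hg
    rw [← he, hfix n hn]
  refine mem_center_iff.2 fun g => ?_
  have := ZStarTwo.commutator_mem_oddCore S hv huniq g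
  rw [hO, mem_bot, mul_inv_eq_one, mul_inv_eq_iff_eq_mul] at this
  exact this.symm

/-- With `S'` cyclic, either some element outside `Z(S)` has central square or `S'` is central. -/
theorem outside_or_central (h : Mid S) (hO : Cfsg.pPrimeCore 2 M = ⊥)
    (hc : IsCyclic ↥⁅(S : Subgroup M), (S : Subgroup M)⁆) :
    (∃ x ∈ (S : Subgroup M), x ∉ zc S ∧ x * x ∈ center M) ∨
      ⁅(S : Subgroup M), (S : Subgroup M)⁆ ≤ center M := by
  classical
  haveI : Fact (Nat.Prime 2) := ⟨Nat.prime_two⟩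
  set D := ⁅(S : Subgroup M), (S : Subgroup M)⁆ with hD
  have hDS : D ≤ (S : Subgroup M) := commutator_le_self _
  have hzc : ∀ v ∈ D, v ∈ zc S → v ∈ center M := fun v hv hvz =>
    mem_center_of_fix h.gen hO h.ci (hDS hv) fun n hn => fix_of_cyclic hc hv hvz hn
  by_cases hle : D ≤ zc S
  · exact Or.inr fun v hv => hzc v hv (hle hv)
  obtain ⟨v, hv, hvz⟩ := SetLike.not_le_iff_exists.1 hle
  obtain ⟨k, hk⟩ := S.isPGroup' ⟨v, hDS hv⟩
  have hk' : v ^ 2 ^ k = 1 := by simpa using congrArg Subtype.val hk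
  have hex : ∃ i, v ^ 2 ^ i ∈ zc S := ⟨k, by rw [hk']; exact one_mem _⟩
  have hi := Nat.find_spec hex
  obtain ⟨i, hi'⟩ : ∃ i, Nat.find hex = i + 1 := by
    refine Nat.exists_eq_succ_of_ne_zero fun e => hvz ?_
    rw [e, pow_zero, pow_one] at hi
    exact hi
  rw [hi', pow_succ, pow_mul, pow_two] at hi
  exact Or.inl ⟨v ^ 2 ^ i, hDS (pow_mem hv _), Nat.find_min hex (by omega),
    hzc _ (mul_mem (pow_mem hv _) (pow_mem hv _)) hi⟩

/-- The case of a cyclic derived subgroup. -/
theorem Mid.bender_of_cyclic (h : Mid S) (hO : Cfsg.pPrimeCore 2 M = ⊥)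
    (hc : IsCyclic ↥⁅(S : Subgroup M), (S : Subgroup M)⁆)
    (hI : ∀ x ∈ zc S, x ∉ center M →
      ∀ hle : (S : Subgroup M) ≤ centralizer ({x} : Set M), Inner (S.subtype hle)) :
    IsBenderGrp (M ⧸ center M) := by
  haveI : Fact (Nat.Prime 2) := ⟨Nat.prime_two⟩
  by_cases hout : ∃ x ∈ (S : Subgroup M), x ∉ zc S ∧ x * x ∈ center M
  · obtain ⟨x, hxS, hxz, hxx⟩ := hout
    exact h.bender_of_outside hxS hxz hxx
  have hDc := (outside_or_central h hO hc).resolve_left hout
  refine h.bender_of_good fun w hw => ?_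
  obtain ⟨x, hx, -, -, hxc, hbad⟩ := h.exists_lift hw
  have hle : (S : Subgroup M) ≤ centralizer ({x} : Set M) := fun s hs =>
    mem_centralizer_singleton_iff.2 (mem_zc_of_commute hx hs)
  set K := centralizer ({x} : Set M) with hK
  have hmap := map_commutator_subtype hle
  rcases hI x hx hxc hle with hT | ⟨-, u, hu, huz, huu⟩ | ⟨hnc, -⟩
  · refine hbad fun g hg => ?_
    haveI : (Cfsg.pPrimeCore 2 K).Normal := Grp.pPrimeCore_isNormal
    have hD' : ⁅((S.subtype hle : Sylow 2 K) : Subgroup K), ((S.subtype hle : Sylow 2 K) : Subgroup K)⁆ ≤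
        centralizer ((Cfsg.pPrimeCore 2 K : Subgroup K) : Set K) := fun d hd =>
      mem_centralizer_iff.2 fun o _ => Subtype.ext
        (mem_center_iff.1 (hDc (hmap ▸ ⟨d, hd, rfl⟩ : (d : M) ∈ _)) o)
    obtain ⟨y, hy, hyz⟩ := h.outside
    have hcent := le_centralizer_of_derived (S.subtype hle).isPGroup'
      (Nat.coprime_two_right.1 Grp.pPrimeCore_coprime) (by rw [normalizer_eq_top]; exact le_top)
      ⟨⟨y, hle hy⟩, hy, fun hc' => hyz ((mem_zc_subtype (x := ⟨y, hle hy⟩) hle).1 ⟨hy, hc'⟩)⟩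
      (odd_fix (h.ci.subgroup K) (Nat.coprime_two_right.1 Grp.pPrimeCore_coprime)
        (by rw [normalizer_eq_top]; exact le_top)) hD'
    have htop : normalizer (((S.subtype hle : Sylow 2 K) : Subgroup K) : Set K) = ⊤ :=
      eq_top_iff.2 (hT.ge.trans (sup_le ((le_centralizer_iff.1 hcent).trans
        (Subgroup.centralizer_le_normalizer _)) le_rfl))
    have hg' : (⟨g, hg⟩ : K) ∈ normalizer (((S.subtype hle : Sylow 2 K) : Subgroup K) : Set K) := htop ▸ mem_top _
    refine mem_normalizer_iff.2 fun y => ⟨fun hy => (mem_normalizer_iff.1 hg' ⟨y, hle hy⟩).1 hy, fun hy => ?_⟩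
    have hyK : y ∈ K := by
      have := mul_mem (mul_mem (inv_mem hg) (hle hy)) hg
      simpa [mul_assoc] using this
    exact (mem_normalizer_iff.1 hg' ⟨y, hyK⟩).2 hy
  · exact hout ⟨u, hu, fun hz => huz ((mem_zc_subtype hle).2 hz), hDc (hmap ▸ ⟨u * u, huu, rfl⟩)⟩
  · exact hnc (by
      have : IsCyclic ↥(⁅((S.subtype hle : Sylow 2 K) : Subgroup K),
          ((S.subtype hle : Sylow 2 K) : Subgroup K)⁆.map K.subtype) := by rw [hmap]; exact hc
      exact (MulEquiv.isCyclic (equivMapOfInjective _ K.subtype K.subtype_injective)).2 this)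

end Cfsg.Agent.Invol.CentInt
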