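import Cfsg.Agent.Lib.Invol.CentInt.Middle
import Cfsg.Agent.Lib.Invol.CentInt.Inner

/-!
# The case of a noncyclic derived subgroup

Two bad involutions never multiply to an element of `S'`: otherwise the subgroup of `N(S)` preserving
their coset of `S'` would be transitive on it.
-/

set_option autoImplicit false
set_option linter.style.haveILetI false

open Subgroup

namespace Cfsg.Agent.Invol.CentInt

variable {M : Type*} [Group M] [Finite M] {S : Sylow 2 M}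

/-- `N_K(S)` is transitive on the involutions of `S'` in the conjugate case. -/
theorem exists_fix_conj (hCI : CI M) {w σ τ : M} (hw : w ∈ zc S)
    (hconj : ∃ g ∈ centralizer ({w} : Set M), g * σ * g⁻¹ = τ) (hσ : σ ∈ (S : Subgroup M))
    (hτ : τ ∈ (S : Subgroup M)) :
    ∃ n ∈ normalizer ((S : Subgroup M) : Set M), Commute n w ∧ n * σ * n⁻¹ = τ := by
  have hSK : (S : Subgroup M) ≤ centralizer ({w} : Set M) := fun s hs =>
    mem_centralizer_singleton_iff.2 (mem_zc_of_commute hw hs)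
  obtain ⟨g, hg, he⟩ := hconj
  obtain ⟨n, hn, hne⟩ := exists_normalizer_conj (hCI.subgroup _) (S := S.subtype hSK) (x := ⟨σ, hSK hσ⟩)
    (g := ⟨g, hg⟩) hσ (by show g * σ * g⁻¹ ∈ (S : Subgroup M); rwa [he])
  refine ⟨n, mem_normalizer_iff.2 fun y => ⟨fun hy => ?_, fun hy => ?_⟩, mem_centralizer_singleton_iff.1 n.2,
    (congrArg Subtype.val hne).trans he⟩
  · exact (mem_normalizer_iff.1 hn ⟨y, hSK hy⟩).1 hy
  · have hyK : y ∈ centralizer ({w} : Set M) := by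
      have := mul_mem (mul_mem (inv_mem n.2) (hSK hy)) n.2
      simpa [mul_assoc] using this
    exact (mem_normalizer_iff.1 hn ⟨y, hyK⟩).2 hy

/-- In `N(S)`, two elements of `Z(S)` differing by a non-trivial element of `S'` are not both fixed by
groups transitive on the involutions of `S'`. -/
theorem orbit_false (hCI : CI M) {w b : M} (hw : w ∈ zc S) (hb : b ∈ zc S)
    (hwb : w⁻¹ * b ∈ ⁅(S : Subgroup M), (S : Subgroup M)⁆) (hne : w ≠ b)
    (hc : ¬ IsCyclic ↥⁅(S : Subgroup M), (S : Subgroup M)⁆)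
    (h1 : ∀ σ ∈ ⁅(S : Subgroup M), (S : Subgroup M)⁆, ∀ τ ∈ ⁅(S : Subgroup M), (S : Subgroup M)⁆,
      σ ≠ 1 → τ ≠ 1 → ∃ g ∈ centralizer ({w} : Set M), g * σ * g⁻¹ = τ)
    (h2 : ∀ σ ∈ ⁅(S : Subgroup M), (S : Subgroup M)⁆, ∀ τ ∈ ⁅(S : Subgroup M), (S : Subgroup M)⁆,
      σ ≠ 1 → τ ≠ 1 → ∃ g ∈ centralizer ({b} : Set M), g * σ * g⁻¹ = τ) : False := by
  haveI : Fact (Nat.Prime 2) := ⟨Nat.prime_two⟩
  set D := ⁅(S : Subgroup M), (S : Subgroup M)⁆ with hD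
  have hDS : D ≤ (S : Subgroup M) := commutator_le_self _
  set N := normalizer ((S : Subgroup M) : Set M)
  have hDn : ∀ n ∈ N, ∀ σ ∈ D, n * σ * n⁻¹ ∈ D := fun n hn σ hσ => conj_mem_derived' hn hσ
  let Γ : Subgroup M :=
    { carrier := {n | n ∈ N ∧ w⁻¹ * (n * w * n⁻¹) ∈ D}
      one_mem' := ⟨one_mem _, by simp⟩
      mul_mem' := fun {p q} hp hq => ⟨mul_mem hp.1 hq.1, by
        have := mul_mem hp.2 (hDn p hp.1 _ hq.2)
        convert this using 1; group⟩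
      inv_mem' := fun {p} hp => ⟨inv_mem hp.1, by
        have := inv_mem (hDn p⁻¹ (inv_mem hp.1) _ hp.2)
        convert this using 1; group⟩ }
  have hS : (S : Subgroup M) ≤ Γ := fun s hs => ⟨le_normalizer hs, by
    rw [mem_zc_of_commute hw hs, mul_inv_cancel_right, inv_mul_cancel]; exact one_mem _⟩
  let Stab : Subgroup Γ := (centralizer ({w} : Set M)).subgroupOf Γ
  let f : Γ ⧸ Stab → D := Quotient.lift (fun n => ⟨w⁻¹ * ((n : M) * w * (n : M)⁻¹), n.2.2⟩) (by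
    intro p q hpq
    have h0 : ((p : M)⁻¹ * q) * w = w * ((p : M)⁻¹ * q) :=
      mem_centralizer_singleton_iff.1 (mem_subgroupOf.1 ((QuotientGroup.leftRel_apply (s := Stab)).1 hpq))
    refine Subtype.ext ?_
    show w⁻¹ * ((p : M) * w * (p : M)⁻¹) = w⁻¹ * ((q : M) * w * (q : M)⁻¹)
    congr 1
    calc (p : M) * w * (p : M)⁻¹ = p * (w * ((p : M)⁻¹ * q)) * (q : M)⁻¹ := by group
      _ = p * (((p : M)⁻¹ * q) * w) * (q : M)⁻¹ := by rw [h0]
      _ = (q : M) * w * (q : M)⁻¹ := by group)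
  have hinj : Function.Injective f := by
    intro p q
    induction p using QuotientGroup.induction_on with | _ p => ?_
    induction q using QuotientGroup.induction_on with | _ q => ?_
    intro hpq
    have h0 : (p : M) * w * (p : M)⁻¹ = (q : M) * w * (q : M)⁻¹ := mul_left_cancel (congrArg Subtype.val hpq)
    refine QuotientGroup.eq.2 (mem_subgroupOf.2 (mem_centralizer_singleton_iff.2 ?_))
    show (p : M)⁻¹ * q * w = w * ((p : M)⁻¹ * q)
    calc (p : M)⁻¹ * q * w = (p : M)⁻¹ * ((q : M) * w * (q : M)⁻¹) * q := by group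
      _ = _ := by rw [← h0]; group
  set c := w⁻¹ * b with hcdef
  have hc1 : c ≠ 1 := fun e => hne (inv_mul_eq_one.1 e)
  -- an element fixing `b` moves `w`
  obtain ⟨τ, hτ, hτ1, hτc⟩ : ∃ τ ∈ D, τ ≠ 1 ∧ τ ≠ c⁻¹ := by
    by_contra hcon
    push_neg at hcon
    refine hc ⟨⟨⟨c⁻¹, inv_mem hwb⟩, fun σ => ?_⟩⟩
    by_cases hσ : (σ : M) = 1
    · exact ⟨0, Subtype.ext (by simp [hσ])⟩
    · exact ⟨1, Subtype.ext (by simp [hcon σ σ.2 hσ])⟩
  obtain ⟨m, hm, hmb, hmc⟩ := exists_fix_conj hCI hb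
    (h2 c⁻¹ (inv_mem hwb) τ hτ (inv_ne_one.2 hc1) hτ1) (hDS (inv_mem hwb)) (hDS hτ)
  have hmw : w⁻¹ * (m * w * m⁻¹) = c * τ := by
    have e0 : b * c⁻¹ = w := by rw [hcdef]; group
    calc w⁻¹ * (m * w * m⁻¹) = w⁻¹ * (m * (b * c⁻¹) * m⁻¹) := by rw [e0]
      _ = w⁻¹ * ((m * b * m⁻¹) * (m * c⁻¹ * m⁻¹)) := by group
      _ = w⁻¹ * (b * τ) := by rw [hmc, hmb.eq, mul_inv_cancel_right]
      _ = c * τ := by rw [hcdef, mul_assoc]
  have hct : c * τ ≠ 1 := fun e => hτc (eq_inv_of_mul_eq_one_right e)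
  have hsurj : Function.Surjective f := by
    rintro ⟨σ, hσ⟩
    by_cases hσ1 : σ = 1
    · exact ⟨QuotientGroup.mk 1, Subtype.ext (by show w⁻¹ * (1 * w * 1⁻¹) = σ; simp [hσ1])⟩
    obtain ⟨n, hn, hnw, hne'⟩ := exists_fix_conj hCI hw
      (h1 _ (mul_mem hwb hτ) σ hσ hct hσ1) (hDS (mul_mem hwb hτ)) (hDS hσ)
    have he : w⁻¹ * (n * m * w * (n * m)⁻¹) = σ := by
      have hnwi : n * w⁻¹ = w⁻¹ * n := (Commute.inv_right hnw).eq
      calc w⁻¹ * (n * m * w * (n * m)⁻¹) = (w⁻¹ * n) * (m * w * m⁻¹) * n⁻¹ := by group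
        _ = n * (w⁻¹ * (m * w * m⁻¹)) * n⁻¹ := by rw [← hnwi]; group
        _ = σ := by rw [hmw, hne']
    exact ⟨QuotientGroup.mk ⟨n * m, mul_mem hn hm, by rw [he]; exact hσ⟩, Subtype.ext he⟩
  have hcard : Stab.index = Nat.card D := Nat.card_eq_of_bijective f ⟨hinj, hsurj⟩
  have hodd : ¬ 2 ∣ Stab.index := fun h => S.not_dvd_index <| h.trans <| by
    have h2' : (S : Subgroup M).subgroupOf Γ ≤ Stab := fun s hs =>
      mem_subgroupOf.2 (mem_centralizer_singleton_iff.2 (mem_zc_of_commute hw hs))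
    exact (index_dvd_of_le h2').trans (relIndex_dvd_index_of_le hS)
  refine hodd (hcard ▸ ?_)
  obtain ⟨k, hk⟩ := IsPGroup.iff_card.1 (S.isPGroup'.to_le hDS)
  rw [hk]
  refine dvd_pow_self 2 fun e => ?_
  rw [e, pow_zero] at hk
  exact hc1 (by
    have := Subgroup.card_eq_one.1 hk
    rw [this, mem_bot] at hwb
    exact hwb)

/-- What the induction gives at a lift `x` of a bad involution. -/
theorem lift_inner (hCI : CI M) (hc : ¬ IsCyclic ↥⁅(S : Subgroup M), (S : Subgroup M)⁆) {x : M}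
    (hx : x ∈ zc S) (hbad : ¬ centralizer ({x} : Set M) ≤ normalizer ((S : Subgroup M) : Set M))
    (hI : ∀ hle : (S : Subgroup M) ≤ centralizer ({x} : Set M), Inner (S.subtype hle))
    (hno : ¬ ∃ u ∈ (S : Subgroup M), u ∉ zc S ∧ u * u = 1) :
    ∀ σ ∈ ⁅(S : Subgroup M), (S : Subgroup M)⁆, ∀ τ ∈ ⁅(S : Subgroup M), (S : Subgroup M)⁆,
      σ ≠ 1 → τ ≠ 1 → ∃ g ∈ centralizer ({x} : Set M), g * σ * g⁻¹ = τ := by
  have hle : (S : Subgroup M) ≤ centralizer ({x} : Set M) := fun s hs =>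
    mem_centralizer_singleton_iff.2 (mem_zc_of_commute hx hs)
  set K := centralizer ({x} : Set M) with hK
  have hmap := map_commutator_subtype hle
  have hc' : ¬ IsCyclic ↥⁅((S.subtype hle : Sylow 2 K) : Subgroup K), ((S.subtype hle : Sylow 2 K) : Subgroup K)⁆ :=
    fun hcy => hc (by
      haveI := hcy
      rw [← hmap]
      exact isCyclic_of_surjective _ ((equivMapOfInjective _ K.subtype K.subtype_injective).surjective))
  rcases hI hle with h | ⟨h2, -⟩ | ⟨-, h | ⟨u, hu, huz, huu⟩⟩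
  · refine absurd (fun g hg => ?_) hbad
    have h' := normalizer_eq_top_of_split (hCI.subgroup K) hc' h
    have hg' : (⟨g, hg⟩ : K) ∈ normalizer (((S.subtype hle : Sylow 2 K) : Subgroup K) : Set K) := h' ▸ mem_top _
    refine mem_normalizer_iff.2 fun y => ⟨fun hy => (mem_normalizer_iff.1 hg' ⟨y, hle hy⟩).1 hy, fun hy => ?_⟩
    have hyK : y ∈ K := by
      have := mul_mem (mul_mem (inv_mem hg) (hle hy)) hg
      simpa [mul_assoc] using this
    exact (mem_normalizer_iff.1 hg' ⟨y, hyK⟩).2 hy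
  · haveI : Fact (Nat.Prime 2) := ⟨Nat.prime_two⟩
    exact absurd (isCyclic_of_prime_card h2) hc'
  · intro σ hσ τ hτ hσ1 hτ1
    rw [← hmap] at hσ hτ
    obtain ⟨σ', hσ', rfl⟩ := hσ
    obtain ⟨τ', hτ', rfl⟩ := hτ
    obtain ⟨g, hg⟩ := h σ' hσ' τ' hτ' (fun e => hσ1 (by rw [e, map_one])) (fun e => hτ1 (by rw [e, map_one]))
    exact ⟨g, g.2, congrArg Subtype.val hg⟩
  · exact absurd ⟨u, hu, fun hz => huz ((mem_zc_subtype hle).2 hz), congrArg Subtype.val huu⟩ hno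

/-- The case of a noncyclic derived subgroup. -/
theorem Mid.bender_of_noncyclic (h : Mid S) (hc : ¬ IsCyclic ↥⁅(S : Subgroup M), (S : Subgroup M)⁆)
    (hI : ∀ x ∈ zc S, x ∉ center M →
      ∀ hle : (S : Subgroup M) ≤ centralizer ({x} : Set M), Inner (S.subtype hle)) :
    IsBenderGrp (M ⧸ center M) := by
  haveI : Fact (Nat.Prime 2) := ⟨Nat.prime_two⟩
  by_cases hout : ∃ x ∈ (S : Subgroup M), x ∉ zc S ∧ x * x ∈ center M
  · obtain ⟨x, hxS, hxz, hxx⟩ := hout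
    exact h.bender_of_outside hxS hxz hxx
  have hno : ¬ ∃ u ∈ (S : Subgroup M), u ∉ zc S ∧ u * u = 1 := fun ⟨u, hu, huz, huu⟩ =>
    hout ⟨u, hu, huz, huu ▸ one_mem _⟩
  by_cases hall : ∀ w, ¬ Bad (qS S) w
  · exact h.bender_of_good hall
  push_neg at hall
  obtain ⟨w₀, hw₀⟩ := hall
  obtain ⟨v₀, hv₀, -, -, hv₀c, hv₀bad⟩ := h.exists_lift hw₀
  set D := ⁅(S : Subgroup M), (S : Subgroup M)⁆ with hD
  have hDS : D ≤ (S : Subgroup M) := commutator_le_self _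
  have hconj := lift_inner h.ci hc hv₀ hv₀bad (hI v₀ hv₀ hv₀c) hno
  obtain ⟨σ, hσ, hσ2⟩ := exists_orderOf_prime_mem (p := 2) (H := D) (by
    obtain ⟨k, hk⟩ := IsPGroup.iff_card.1 (S.isPGroup'.to_le hDS)
    rw [hk]
    refine dvd_pow_self 2 fun e => ?_
    rw [e, pow_zero] at hk
    exact hc (by rw [Subgroup.card_eq_one.1 hk]; infer_instance))
  have hσ1 := ne_one_of_orderOf_two hσ2
  obtain ⟨τ, hτ, hτ1, hτσ⟩ : ∃ τ ∈ D, τ ≠ 1 ∧ τ ≠ σ := by
    by_contra hcon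
    push_neg at hcon
    refine hc ⟨⟨⟨σ, hσ⟩, fun t => ?_⟩⟩
    by_cases ht : (t : M) = 1
    · exact ⟨0, Subtype.ext (by simp [ht])⟩
    · exact ⟨1, Subtype.ext (by simp [hcon t t.2 ht])⟩
  have hσc : σ ∉ center M := fun hcen => by
    obtain ⟨g, -, hg⟩ := hconj σ hσ τ hτ hσ1 hτ1
    rw [mem_center_iff.1 hcen g, mul_inv_cancel_right] at hg
    exact hτσ hg.symm
  refine h.bender_of_pair (c := (σ : M ⧸ center M)) (orderOf_two_iff.2 ⟨?_, fun e => hσc (mk_eq_one_iff.1 e)⟩)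
    (mem_qS.2 ⟨σ, hDS hσ, rfl⟩) (fun hb => ?_) fun w hw hcw => ?_
  · rw [← QuotientGroup.mk_mul, mul_self_of_orderOf_two hσ2, QuotientGroup.mk_one]
  · obtain ⟨hz, -, hnc, hbad⟩ := h.lift_bad hb (hDS hσ) rfl
    obtain ⟨g, hg, he⟩ := lift_inner h.ci hc hz hbad (hI σ hz hnc) hno σ hσ τ hτ hσ1 hτ1
    rw [mem_centralizer_singleton_iff.1 hg, mul_inv_cancel_right] at he
    exact hτσ he.symm
  · obtain ⟨v, hvS, rfl⟩ := hw.2.1
    obtain ⟨hv, -, hvc, hvbad⟩ := h.lift_bad hw hvS rfl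
    obtain ⟨hb, -, hbc, hbbad⟩ := h.lift_bad hcw (mul_mem (hDS hσ) hvS) (by rw [QuotientGroup.mk_mul]; rfl)
    have e : v⁻¹ * (σ * v) = σ := by
      rw [mem_zc_of_commute hv (hDS hσ), inv_mul_cancel_left]
    exact orbit_false h.ci hv hb (e.symm ▸ hσ) (fun e0 => hσ1 (mul_eq_right.1 e0.symm)) hc
      (lift_inner h.ci hc hv hvbad (hI v hv hvc) hno) (lift_inner h.ci hc hb hbbad (hI _ hb hbc) hno)

end Cfsg.Agent.Invol.CentInt
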