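import Cfsg.Agent.Lib.Invol.CentInt.Main
import Cfsg.Agent.Lib.Invol.CentInt.Cover
import Cfsg.Agent.Lib.Invol.CentInt.CoverSz

/-!
# The covering lemma in the form the induction uses
-/

set_option autoImplicit false
set_option linter.style.haveILetI false

open Subgroup

namespace Cfsg.Agent.Invol.CentInt

universe u

theorem cover_decomp : CoverStmt.{u} := by
  intro M _ _ hgen hS hB
  obtain ⟨A, L, hA, hA2, hLp, hAL, h | ⟨hnc, h | ⟨hZ, F, iF, iF', hF, ⟨e⟩⟩⟩⟩ := cover (center M) le_rfl hgen hS hB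
  · exact ⟨A, L, hA, hA2, hLp, hAL, Or.inl h⟩
  · obtain ⟨hinf, hodd, hiso⟩ := h
    exact ⟨A, L, hA, hA2, hLp, hAL, Or.inr ⟨hnc, Or.inl ⟨hinf,
      fun h2 => (Nat.not_even_iff_odd.2 hodd) (even_iff_two_dvd.2 h2), hiso⟩⟩⟩
  · exact ⟨A, L, hA, hA2, hLp, hAL, Or.inr ⟨hnc, Or.inr ⟨fun S =>
      exists_outside_involution hA hA2 hLp hAL hZ hF e S, hZ, F, iF, iF', hF, ⟨e⟩⟩⟩⟩

end Cfsg.Agent.Invol.CentInt
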