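import Cfsg.Agent.Lib.Invol.CentInt.Basic

/-!
# Conjugates of a bad involution

An involution of a Sylow 2-subgroup `S` is bad when its centraliser is not in the normaliser of `S`.
If some involution `c` is good and no bad `w` has `c * w` bad, the bad ones have all conjugates in `S`.
-/

set_option autoImplicit false
set_option linter.style.haveILetI false

open Subgroup

namespace Cfsg.Agent.Invol.CentInt

variable {G : Type*} [Group G] [Finite G]

/-- The involution `w` of `S` has its centraliser outside the normaliser of `S`. -/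
def Bad (S : Sylow 2 G) (w : G) : Prop :=
  orderOf w = 2 ∧ w ∈ (S : Subgroup G) ∧ ¬ centralizer ({w} : Set G) ≤ normalizer ((S : Subgroup G) : Set G)

theorem two_elem_mem_sylow {S : Sylow 2 G} {x : G} {n : ℕ} (hx : orderOf x = 2 ^ n)
    (hn : x ∈ normalizer ((S : Subgroup G) : Set G)) : x ∈ (S : Subgroup G) := by
  haveI : Fact (Nat.Prime 2) := ⟨Nat.prime_two⟩
  have hsup := (isPGroup_zpowers (p := 2) hx).to_sup_of_normal_right' S.isPGroup' (zpowers_le.2 hn)
  exact S.3 hsup le_sup_right ▸ mem_sup_left (mem_zpowers x)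

theorem Bad.conj {S : Sylow 2 G} {w n : G} (h : Bad S w)
    (hn : n ∈ normalizer ((S : Subgroup G) : Set G)) : Bad S (n * w * n⁻¹) := by
  refine ⟨by rw [orderOf_conj_eq, h.1], mem_normalizer_conj_mem hn h.2.1, fun hle => h.2.2 fun g hg => ?_⟩
  have := hle (show n * g * n⁻¹ ∈ centralizer ({n * w * n⁻¹} : Set G) by
    rw [mem_centralizer_singleton_iff] at hg ⊢
    calc n * g * n⁻¹ * (n * w * n⁻¹) = n * (g * w) * n⁻¹ := by group
      _ = n * (w * g) * n⁻¹ := by rw [hg]
      _ = _ := by group)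
  simpa [mul_assoc] using mul_mem (mul_mem (inv_mem hn) this) hn

variable (hCI : CI G)
include hCI

theorem Bad.mem_zc {S : Sylow 2 G} {w : G} (h : Bad S w) : w ∈ zc S :=
  not_not.1 fun hz => h.2.2 (centralizer_le_normalizer hCI h.2.1 hz)

theorem Bad.of_isConj {S : Sylow 2 G} {w g : G} (h : Bad S w) (hg : g * w * g⁻¹ ∈ (S : Subgroup G)) :
    Bad S (g * w * g⁻¹) := by
  obtain ⟨n, hn, he⟩ := exists_normalizer_conj hCI h.2.1 hg
  exact he ▸ h.conj hn

/-- With a good involution `c` of `S` such that `c * w` is never bad for bad `w`, the conjugates of a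
bad involution lie in `S`. -/
theorem bad_conj_mem {S : Sylow 2 G} {c : G} (hc2 : orderOf c = 2) (hcS : c ∈ (S : Subgroup G))
    (hgood : ¬ Bad S c) (hcw : ∀ w, Bad S w → ¬ Bad S (c * w)) {b g : G} (hb : Bad S b) :
    g * b * g⁻¹ ∈ (S : Subgroup G) := by
  haveI : Fact (Nat.Prime 2) := ⟨Nat.prime_two⟩
  have hcC : centralizer ({c} : Set G) ≤ normalizer ((S : Subgroup G) : Set G) :=
    not_not.1 fun h => hgood ⟨hc2, hcS, h⟩
  set u := g * b * g⁻¹ with hu
  have hu2 : orderOf u = 2 := by rw [hu, orderOf_conj_eq, hb.1]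
  have hr : orderOf (c * u) ≠ 0 := (orderOf_pos _).ne'
  obtain ⟨a, k, hk, hord⟩ := Nat.exists_eq_two_pow_mul_odd hr
  obtain ⟨d, -, hdu, hrk⟩ := exists_conj_two_part hc2 hu2 hord hk
  set r := c * u with hrdef
  set v := c * r ^ k with hv
  have hv2 : orderOf v = 2 := by rw [← hdu, orderOf_conj_eq, hu2]
  have hcv : c * v = r ^ k := by rw [hv, ← mul_assoc, mul_self_of_orderOf_two hc2, one_mul]
  obtain ⟨f, hf⟩ := exists_conj_subset_sylow (isPGroup_closure_pair (a := a) hc2 hv2 (by rw [hcv, hrk])) S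
  -- the conjugates of `c` and `v` in `S`
  have hfc := hf c left_mem_closure_pair
  have hfv := hf v right_mem_closure_pair
  have hfvb : f * v * f⁻¹ = (f * d * g) * b * (f * d * g)⁻¹ := by rw [← hdu, hu]; group
  have hbadv : Bad S (f * v * f⁻¹) := hfvb ▸ hb.of_isConj hCI (hfvb ▸ hfv)
  rcases Nat.eq_zero_or_pos a with rfl | ha
  · -- `c` is conjugate to `u`
    rw [pow_zero, orderOf_eq_one_iff] at hrk
    rw [hv, hrk, mul_one] at hfvb
    exfalso
    refine hgood ?_
    have h1 : ((f * d * g)⁻¹ * f)⁻¹ * b * ((f * d * g)⁻¹ * f) = c := by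
      calc _ = f⁻¹ * ((f * d * g) * b * (f * d * g)⁻¹) * f := by group
        _ = c := by rw [← hfvb]; group
    have h2 := hb.of_isConj hCI (g := ((f * d * g)⁻¹ * f)⁻¹) (by rw [inv_inv, h1]; exact hcS)
    rwa [inv_inv, h1] at h2
  have hcomm : Commute (f * c * f⁻¹) (f * v * f⁻¹) :=
    mem_zc_of_commute (hbadv.mem_zc hCI) hfc
  have hcv' : c * v = v * c := by
    have := congrArg (fun z => f⁻¹ * z * f) hcomm.eq
    simpa [mul_assoc] using this
  have hsq : orderOf (r ^ k) ∣ 2 := by
    rw [orderOf_dvd_iff_pow_eq_one, pow_two]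
    calc r ^ k * r ^ k = c * v * (v * c) := by rw [← hcv']; rw [hcv]
      _ = c * (v * v) * c := by group
      _ = 1 := by rw [mul_self_of_orderOf_two hv2, mul_one, mul_self_of_orderOf_two hc2]
  have ha1 : a = 1 := le_antisymm
    ((Nat.pow_dvd_pow_iff_le_right (x := 2) (k := a) (l := 1) (by norm_num)).1 (by rwa [hrk] at hsq)) ha
  subst ha1
  -- `u` centralises the involution `w = r ^ k`
  set w := r ^ k with hw
  have hw2 : orderOf w = 2 := by simpa using hrk
  have hwi : w⁻¹ = w := inv_of_orderOf_two hw2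
  have hcw' : Commute c w := by
    show c * w = w * c
    have e := mul_zpow_comm hc2 hu2 (k : ℤ)
    rw [zpow_natCast, zpow_neg, zpow_natCast, ← hw, hwi] at e
    exact e
  have hwN : w ∈ normalizer ((S : Subgroup G) : Set G) :=
    hcC (mem_centralizer_singleton_iff.2 hcw'.eq.symm)
  have hwS := two_elem_mem_sylow (n := 1) (by simpa using hw2) hwN
  have hvS : v ∈ (S : Subgroup G) := mul_mem hcS hwS
  have hfvinv : f⁻¹ * (f * v * f⁻¹) * f⁻¹⁻¹ = v := by group
  have hvbad : Bad S (c * w) := by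
    have := hbadv.of_isConj hCI (g := f⁻¹) (by rw [hfvinv]; exact hvS)
    rwa [hfvinv] at this
  have huw : Commute u w := by
    have hu' : u = c * r := y_eq hc2
    rw [hu']
    exact hcw'.mul_left (Commute.self_pow r k)
  have huN : u ∈ normalizer ((S : Subgroup G) : Set G) := by
    by_contra hnot
    exact hcw w ⟨hw2, hwS, fun hle => hnot (hle (mem_centralizer_singleton_iff.2 huw.eq))⟩ hvbad
  exact two_elem_mem_sylow (n := 1) (by simpa using hu2) huN

end Cfsg.Agent.Invol.CentInt
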