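import Cfsg.Agent.Lib.Invol.CentInt.Lift
import Cfsg.Agent.Lib.Invol.BenderCover.Main
import Cfsg.Prelude.Def_TwoFusion

/-!
# Reading off the structure

From the decomposition `M = A L` modulo the odd core the statement and the inductive information follow.
-/

set_option autoImplicit false
set_option linter.style.haveILetI false

open Subgroup
open scoped commutatorElement

namespace Cfsg.Agent.Invol.CentInt

variable {G : Type*} [Group G]

/-- Quasisimple factor times central 2-group: what the covering lemma gives. -/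
def Decomp (M : Type*) [Group M] : Prop :=
  ∃ A L : Subgroup M, A ≤ center M ∧ IsPGroup 2 A ∧ Group.IsPerfect L ∧ A ⊔ L = ⊤ ∧
    ((Nonempty (L ≃* Matrix.SpecialLinearGroup (Fin 2) (ZMod 5)) ∧
        ∀ S : Sylow 2 M, Nat.card ↥⁅(S : Subgroup M), (S : Subgroup M)⁆ = 2) ∨
      ((∀ S : Sylow 2 M, ¬ IsCyclic ↥⁅(S : Subgroup M), (S : Subgroup M)⁆) ∧
        ((A ⊓ L = ⊥ ∧ ¬ 2 ∣ Nat.card (center L) ∧
            ((∃ (m : ℕ) (F : Type) (_ : Field F) (_ : Fintype F), 1 ≤ m ∧ Fintype.card F = 2 ^ (2 * m + 1) ∧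
                Nonempty (L ≃* ↥(Cfsg.Lie.Sz F (2 ^ (m + 1))))) ∨
              (∃ (n : ℕ) (F : Type) (_ : Field F) (_ : Fintype F), 2 ≤ n ∧ Fintype.card F = 4 ^ n ∧
                (Nonempty (L ≃* Cfsg.PSU 3 F (2 ^ n)) ∨ Nonempty (L ≃* ↥(Cfsg.SU 3 F (2 ^ n))))))) ∨
          ((∀ S : Sylow 2 M, ∃ u ∈ (S : Subgroup M), u * u = 1 ∧ u ∉ centralizer ((S : Subgroup M) : Set M)) ∧
            Subgroup.center L ≠ ⊥ ∧
            ∃ (F : Type) (_ : Field F) (_ : Fintype F), Fintype.card F = 8 ∧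
              Nonempty (L ⧸ Subgroup.center L ≃* ↥(Cfsg.Lie.Sz F 4))))))

/-- The last two alternatives of the statement. -/
def Big (G : Type*) [Group G] : Prop :=
  (∃ (N M : Subgroup G) (_ : N.Normal) (_ : M.Normal) (_ : (N.subgroupOf M).Normal), N < M ∧ Odd (Nat.card ↥N) ∧ Odd M.index ∧
      ∃ A L : Subgroup (↥M ⧸ N.subgroupOf M), IsMulCommutative ↥A ∧ IsPGroup 2 ↥A ∧
        Nonempty (↥L ≃* Matrix.SpecialLinearGroup (Fin 2) (ZMod 5)) ∧ (∀ a ∈ A, ∀ l ∈ L, a * l = l * a) ∧ A ⊔ L = ⊤) ∨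
    (∃ (M : Subgroup G), M.Normal ∧ Odd M.index ∧ ∃ A L : Subgroup G, IsMulCommutative ↥A ∧ IsPGroup 2 ↥A ∧
      ((Cfsg.IsInternalDirectProduct A L M ∧
          ((∃ (m : ℕ) (F : Type) (_ : Field F) (_ : Fintype F), 1 ≤ m ∧ Fintype.card F = 2 ^ (2 * m + 1) ∧
              Nonempty (↥L ≃* ↥(Cfsg.Lie.Sz F (2 ^ (m + 1))))) ∨
            (∃ (n : ℕ) (F : Type) (_ : Field F) (_ : Fintype F), 2 ≤ n ∧ Fintype.card F = 4 ^ n ∧
              (Nonempty (↥L ≃* Cfsg.PSU 3 F (2 ^ n)) ∨ Nonempty (↥L ≃* ↥(Cfsg.SU 3 F (2 ^ n))))))) ∨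
        (A ≤ M ∧ L ≤ M ∧ (∀ a ∈ A, ∀ l ∈ L, a * l = l * a) ∧ A ⊔ L = M ∧ Group.IsPerfect ↥L ∧
          Subgroup.center ↥L ≠ ⊥ ∧
          ∃ (F : Type) (_ : Field F) (_ : Fintype F), Fintype.card F = 8 ∧
            Nonempty (↥L ⧸ Subgroup.center ↥L ≃* ↥(Cfsg.Lie.Sz F 4)))))

theorem isMulCommutative_of_central {A : Subgroup G} (h : A ≤ center G) : IsMulCommutative ↥A :=
  ⟨⟨fun a b => Subtype.ext (mem_center_iff.1 (h b.2) a)⟩⟩

theorem derived_le_of_central_sup {M : Type*} [Group M] {A L : Subgroup M} (hA : A ≤ center M) (h : A ⊔ L = ⊤)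
    (H : Subgroup M) : L.Normal ∧ ⁅H, H⁆ ≤ L := by
  have hn : L.Normal := normalizer_eq_top_iff.1 (eq_top_iff.2 (h.ge.trans (sup_le (fun a ha =>
    mem_normalizer_iff.2 fun y => by
      rw [← mem_center_iff.1 (hA ha) y, mul_inv_cancel_right]) le_normalizer)))
  refine ⟨hn, commutator_le.2 fun x _ y _ => ?_⟩
  have key : ∀ g : M, ∃ a ∈ A, ∃ l ∈ L, g = a * l := fun g => by
    haveI := hn
    obtain ⟨a, ha, l, hl, e⟩ := (mem_sup_of_normal_right (s := A) (t := L)).1 (h.ge (mem_top g))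
    exact ⟨a, ha, l, hl, e.symm⟩
  obtain ⟨a, ha, l, hl, rfl⟩ := key x
  obtain ⟨b, hb, l', hl', rfl⟩ := key y
  have e : ⁅a * l, b * l'⁆ = ⁅l, l'⁆ := by
    have h1 := fun g => mem_center_iff.1 (hA ha) g
    have h2 := fun g => mem_center_iff.1 (hA hb) g
    calc ⁅a * l, b * l'⁆ = a * (l * b) * l' * l⁻¹ * a⁻¹ * l'⁻¹ * b⁻¹ := by rw [commutatorElement_def]; group
      _ = b * (a * (l * l' * l⁻¹) * a⁻¹) * l'⁻¹ * b⁻¹ := by rw [h2 l, ← mul_assoc, h2 a]; group
      _ = b * ⁅l, l'⁆ * b⁻¹ := by rw [← h1 (l * l' * l⁻¹), mul_inv_cancel_right, commutatorElement_def]; group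
      _ = ⁅l, l'⁆ := by rw [← h2, mul_inv_cancel_right]
  rw [e, commutatorElement_def]
  exact mul_mem (mul_mem (mul_mem hl hl') (inv_mem hl)) (inv_mem hl')

variable [Finite G]

/-- The noncyclic endgame. -/
theorem endgame_noncyclic {S : Sylow 2 G} (hc : ¬ IsCyclic ↥⁅(S : Subgroup G), (S : Subgroup G)⁆)
    (hB : IsBenderGrp (twoGen G ⧸ center (twoGen G))) (hD : Decomp (twoGen G)) : Inner S ∧ Big G := by
  haveI : Fact (Nat.Prime 2) := ⟨Nat.prime_two⟩
  set M := twoGen G with hM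
  have hSM := sylow_le_twoGen S
  obtain ⟨A, L, hA, hA2, hLp, hAL, ⟨-, hcard⟩ | ⟨-, hsplit⟩⟩ := hD
  · exact absurd (genS_isCyclic.1 (isCyclic_of_prime_card (hcard (genS S)))) hc
  -- the subgroups of `G`
  have hAL' : A.map M.subtype ⊔ L.map M.subtype = M := by
    rw [← Subgroup.map_sup, hAL, ← MonoidHom.range_eq_map, range_subtype]
  have hAc : IsMulCommutative ↥(A.map M.subtype) := by
    refine ⟨⟨?_⟩⟩
    rintro ⟨_, a, ha, rfl⟩ ⟨_, b, hb, rfl⟩
    refine Subtype.ext ?_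
    show (a : G) * b = b * a
    exact congrArg Subtype.val (mem_center_iff.1 (hA hb) a)
  have hcom : ∀ a ∈ A.map M.subtype, ∀ l ∈ L.map M.subtype, a * l = l * a := by
    rintro _ ⟨a, ha, rfl⟩ _ ⟨l, -, rfl⟩
    exact congrArg Subtype.val (mem_center_iff.1 (hA ha) l).symm
  let eL : L ≃* ↥(L.map M.subtype) := L.equivMapOfInjective _ M.subtype_injective
  rcases hsplit with ⟨hinf, hodd, hiso⟩ | ⟨hu, hZ, F, iF, iF', hF, ⟨e⟩⟩
  · refine ⟨Or.inr (Or.inr ⟨hc, Or.inl fun σ hσ τ hτ hσ1 hτ1 => ?_⟩), Or.inr ⟨M, inferInstance, twoGen_index_odd,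
      A.map M.subtype, L.map M.subtype, hAc, hA2.map _, Or.inl ⟨⟨map_subtype_le _, map_subtype_le _, hcom,
        by rw [← Subgroup.map_inf _ _ _ M.subtype_injective, hinf, Subgroup.map_bot], hAL'⟩, ?_⟩⟩⟩
    · rw [← map_commutator_subtype hSM] at hσ hτ
      obtain ⟨s, hs, rfl⟩ := hσ
      obtain ⟨t, ht, rfl⟩ := hτ
      obtain ⟨hLn, hle⟩ := derived_le_of_central_sup hA hAL ((genS S : Sylow 2 M) : Subgroup M)
      have hsL := hle hs
      have htL := hle ht
      obtain ⟨Pb, W, hp, hi, -, -, -, -, hcomm, -, htr, -⟩ := BenderCover.torusSylow_bender hB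
      let π := QuotientGroup.mk' (center M)
      -- 2-elements of `L` central in `M` are trivial
      have htriv : ∀ d ∈ L, d ∈ center M → ∀ n : ℕ, d ^ 2 ^ n = 1 → d = 1 := fun d hdL hdc n hn => by
        have hdL' : (⟨d, hdL⟩ : L) ∈ center L := mem_center_iff.2 fun l => Subtype.ext (mem_center_iff.1 hdc l)
        have h1 : orderOf (⟨_, hdL'⟩ : center L) = 1 := by
          refine Nat.eq_one_of_dvd_coprimes (Nat.Coprime.pow_left n
            (Nat.prime_two.coprime_iff_not_dvd.2 hodd)) ?_ (orderOf_dvd_natCard _)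
          exact orderOf_dvd_of_pow_eq_one (Subtype.ext (Subtype.ext hn))
        exact congrArg (fun z : center L => ((z : L) : M)) (orderOf_eq_one_iff.1 h1)
      have hpow : ∀ y ∈ ((genS S : Sylow 2 M) : Subgroup M), ∃ n : ℕ, y ^ 2 ^ n = 1 := fun y hy => by
        obtain ⟨n, hn⟩ := (genS S).isPGroup' ⟨y, hy⟩
        have := congrArg Subtype.val hn
        rw [SubmonoidClass.coe_pow, OneMemClass.coe_one] at this
        exact ⟨n, this⟩
      have hsS := commutator_le_self _ hs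
      have htS := commutator_le_self _ ht
      obtain ⟨g, hg⟩ := exists_conj_subset_sylow ((genS S).isPGroup'.map π) (hp.toSylow hi)
      have hW : ∀ y ∈ ⁅((genS S : Sylow 2 M) : Subgroup M), ((genS S : Sylow 2 M) : Subgroup M)⁆,
          g * π y * g⁻¹ ∈ W := by
        intro y hy
        have h2 : (⁅((genS S : Sylow 2 M) : Subgroup M), ((genS S : Sylow 2 M) : Subgroup M)⁆.map π).map
            (MulAut.conj g).toMonoidHom ≤ W := by
          rw [map_commutator, map_commutator]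
          refine commutator_le.2 ?_
          rintro _ ⟨a, ha, rfl⟩ _ ⟨b, hb, rfl⟩
          exact hcomm _ (hg a ha) _ (hg b hb)
        exact h2 ⟨_, ⟨y, hy, rfl⟩, rfl⟩
      have hne : ∀ y ∈ L, y ∈ ((genS S : Sylow 2 M) : Subgroup M) → y ≠ 1 → g * π y * g⁻¹ ≠ 1 := by
        intro y hyL hy hy1 h
        rw [mul_inv_eq_one, mul_eq_left] at h
        obtain ⟨n, hn⟩ := hpow y hy
        exact hy1 (htriv y hyL (mk_eq_one_iff.1 h) n hn)
      obtain ⟨k, hk⟩ := htr _ (hW s hs) _ (hW t ht) (hne s hsL hsS fun e0 => hσ1 (by rw [e0, map_one]))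
        (hne t htL htS fun e0 => hτ1 (by rw [e0, map_one]))
      obtain ⟨b, hb⟩ := QuotientGroup.mk'_surjective (center M) (g⁻¹ * k * g)
      have hπ : π (b * s * b⁻¹) = π t := by
        rw [map_mul, map_mul, map_inv, show π b = g⁻¹ * k * g from hb]
        calc g⁻¹ * k * g * π s * (g⁻¹ * k * g)⁻¹ = g⁻¹ * (k * (g * π s * g⁻¹) * k⁻¹) * g := by group
          _ = π t := by rw [hk]; group
      set d := t⁻¹ * (b * s * b⁻¹) with hd
      have hdc : d ∈ center M := mk_eq_one_iff.1 (by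
        show π d = 1
        rw [hd, map_mul, map_inv, hπ, inv_mul_cancel])
      obtain ⟨n, hn⟩ := hpow s hsS
      obtain ⟨m, hm⟩ := hpow t htS
      have hd2 : d ^ 2 ^ (n + m) = 1 := by
        have hcm : Commute t d := mem_center_iff.1 hdc t
        have e0 : b * s * b⁻¹ = t * d := by rw [hd]; group
        have h1 := congrArg (· ^ 2 ^ (n + m)) e0
        have e1 : s ^ 2 ^ (n + m) = 1 := by rw [pow_add, pow_mul, hn, one_pow]
        have e2 : t ^ 2 ^ (n + m) = 1 := by rw [pow_add, mul_comm, pow_mul, hm, one_pow]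
        simp only [conj_pow, hcm.mul_pow, e1, e2, mul_one, mul_inv_cancel, one_mul] at h1
        exact h1.symm
      have hd1 := htriv d (mul_mem (inv_mem htL) (hLn.conj_mem s hsL b)) hdc (n + m) hd2
      rw [hd, inv_mul_eq_one] at hd1
      exact ⟨b, congrArg Subtype.val hd1.symm⟩
    · rcases hiso with ⟨m, F, iF, iF', hm, hF, ⟨f⟩⟩ | ⟨n, F, iF, iF', hn, hF, f | f⟩
      · exact Or.inl ⟨m, F, iF, iF', hm, hF, ⟨eL.symm.trans f⟩⟩
      · exact Or.inr ⟨n, F, iF, iF', hn, hF, Or.inl ⟨eL.symm.trans f.some⟩⟩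
      · exact Or.inr ⟨n, F, iF, iF', hn, hF, Or.inr ⟨eL.symm.trans f.some⟩⟩
  · haveI : Group.IsPerfect ↥(L.map M.subtype) := Group.IsPerfect.ofSurjective (f := eL.toMonoidHom) eL.surjective
    refine ⟨Or.inr (Or.inr ⟨hc, Or.inr ?_⟩), Or.inr ⟨M, inferInstance, twoGen_index_odd, A.map M.subtype,
      L.map M.subtype, hAc, hA2.map _, Or.inr ⟨map_subtype_le _, map_subtype_le _, hcom, hAL', inferInstance, ?_,
        F, iF, iF', hF, ⟨?_⟩⟩⟩⟩
    · obtain ⟨u, hu1, hu2, hu3⟩ := hu (genS S)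
      exact ⟨u, hu1, fun hz => hu3 ((mem_zc_subtype hSM).2 hz).2, congrArg Subtype.val hu2⟩
    · intro hbot
      refine hZ ((Subgroup.eq_bot_iff_forall _).2 fun z hz => ?_)
      have hz' : eL z ∈ center ↥(L.map M.subtype) := mem_center_iff.2 fun w => by
        obtain ⟨w', rfl⟩ := eL.surjective w
        rw [← map_mul, ← map_mul, mem_center_iff.1 hz w']
      rw [hbot, mem_bot] at hz'
      exact eL.map_eq_one_iff.1 hz'
    · refine (QuotientGroup.congr (center ↥(L.map M.subtype)) (center L) eL.symm ?_).trans e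
      ext z
      simp only [mem_map, MonoidHom.coe_coe, mem_center_iff]
      constructor
      · rintro ⟨w, hw, rfl⟩ v
        obtain ⟨v', rfl⟩ := eL.symm.surjective v
        rw [← map_mul, ← map_mul, hw v']
      · intro hz
        exact ⟨eL z, fun v => by
          obtain ⟨v', rfl⟩ := eL.surjective v
          rw [← map_mul, ← map_mul, hz v'], eL.symm_apply_apply z⟩

/-- The cyclic endgame. -/
theorem endgame_cyclic {S : Sylow 2 G} (hc : IsCyclic ↥⁅(S : Subgroup G), (S : Subgroup G)⁆)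
    [hN : (Cfsg.pPrimeCore 2 (twoGen G)).Normal]
    (hD : Decomp (twoGen G ⧸ Cfsg.pPrimeCore 2 (twoGen G))) : Inner S ∧ Big G := by
  haveI : Fact (Nat.Prime 2) := ⟨Nat.prime_two⟩
  set M := twoGen G with hM
  set O := Cfsg.pPrimeCore 2 M with hO
  set π := QuotientGroup.mk' O with hπ
  have hπs : Function.Surjective π := QuotientGroup.mk'_surjective O
  have hSM := sylow_le_twoGen S
  set T := ((genS S : Sylow 2 M) : Subgroup M) with hT
  have hinj : ∀ x ∈ T, ∀ y ∈ T, π x = π y → x = y := by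
    intro x hx y hy he
    have h2 : x⁻¹ * y ∈ O ⊓ T := ⟨QuotientGroup.eq.1 he, T.mul_mem (T.inv_mem hx) hy⟩
    have hinf : O ⊓ T = ⊥ := inf_eq_bot_of_coprime (by
      obtain ⟨k, hk⟩ := IsPGroup.iff_card.1 (genS S).isPGroup'
      rw [hk]
      exact (Grp.pPrimeCore_coprime (p := 2) (G := M)).pow_right k)
    rw [hinf, mem_bot, inv_mul_eq_one] at h2
    exact h2
  have hmapC : ⁅T, T⁆.map π = ⁅(((genS S).mapSurjective hπs : Sylow 2 (M ⧸ O)) : Subgroup (M ⧸ O)),
      (((genS S).mapSurjective hπs : Sylow 2 (M ⧸ O)) : Subgroup (M ⧸ O))⁆ := by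
    rw [map_commutator, Sylow.coe_mapSurjective]
  have hcardT : Nat.card ↥⁅T, T⁆ = Nat.card ↥(⁅T, T⁆.map π) := by
    refine Nat.card_eq_of_bijective (fun x => ⟨π x, x, x.2, rfl⟩) ⟨fun x y he => Subtype.ext ?_, ?_⟩
    · exact hinj _ (commutator_le_self _ x.2) _ (commutator_le_self _ y.2) (congrArg Subtype.val he)
    · rintro ⟨_, x, hx, rfl⟩
      exact ⟨⟨x, hx⟩, rfl⟩
  obtain ⟨A, L, hA, hA2, hLp, hAL, ⟨⟨e⟩, hcard⟩ | ⟨hnc, -⟩⟩ := hD
  swap
  · refine absurd ?_ (hnc ((genS S).mapSurjective hπs))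
    rw [← hmapC]
    haveI := genS_isCyclic.2 hc
    exact isCyclic_of_surjective _ (MonoidHom.subgroupMap_surjective π ⁅T, T⁆)
  have hcard2 : Nat.card ↥⁅(S : Subgroup G), (S : Subgroup G)⁆ = 2 := by
    rw [← map_commutator_subtype hSM, Subgroup.card_map_of_injective M.subtype_injective, hcardT, hmapC]
    exact hcard _
  refine ⟨Or.inr (Or.inl ⟨hcard2, ?_⟩), Or.inl ?_⟩
  · -- a quaternion subgroup of `L`
    obtain ⟨q, hq⟩ : ∃ q : Matrix.SpecialLinearGroup (Fin 2) (ZMod 5), (q : Matrix (Fin 2) (Fin 2) (ZMod 5)) = !![0, 1; -1, 0] :=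
      ⟨⟨!![0, 1; -1, 0], by simp [Matrix.det_fin_two]⟩, rfl⟩
    obtain ⟨r, hr⟩ : ∃ r : Matrix.SpecialLinearGroup (Fin 2) (ZMod 5), (r : Matrix (Fin 2) (Fin 2) (ZMod 5)) = !![2, 0; 0, 3] :=
      ⟨⟨!![2, 0; 0, 3], by simp [Matrix.det_fin_two]; decide⟩, rfl⟩
    have hq4 : q ^ 2 ^ 2 = 1 := Subtype.ext (by
      rw [Matrix.SpecialLinearGroup.coe_pow, hq, Matrix.SpecialLinearGroup.coe_one]; decide)
    have hr4 : r ^ 2 ^ 2 = 1 := Subtype.ext (by
      rw [Matrix.SpecialLinearGroup.coe_pow, hr, Matrix.SpecialLinearGroup.coe_one]; decide)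
    have hrq : r * q * r⁻¹ = q⁻¹ := Subtype.ext (by
      simp [Matrix.SpecialLinearGroup.coe_inv, hq, hr, Matrix.adjugate_fin_two]; decide)
    have hne : r * q ≠ q * r := fun h => by
      have := congrArg (fun z : Matrix.SpecialLinearGroup (Fin 2) (ZMod 5) => (z : Matrix (Fin 2) (Fin 2) (ZMod 5))) h
      simp only [Matrix.SpecialLinearGroup.coe_mul, hq, hr] at this
      exact absurd this (by decide)
    let f : Matrix.SpecialLinearGroup (Fin 2) (ZMod 5) →* M ⧸ O := L.subtype.comp e.symm.toMonoidHom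
    have hp : IsPGroup 2 ↥(zpowers (f q) ⊔ zpowers (f r)) := by
      obtain ⟨i, -, hi⟩ := (Nat.dvd_prime_pow Nat.prime_two).1
        (orderOf_dvd_of_pow_eq_one (show f q ^ 2 ^ 2 = 1 by rw [← map_pow, hq4, map_one]))
      obtain ⟨j, -, hj⟩ := (Nat.dvd_prime_pow Nat.prime_two).1
        (orderOf_dvd_of_pow_eq_one (show f r ^ 2 ^ 2 = 1 by rw [← map_pow, hr4, map_one]))
      rw [sup_comm]
      refine (isPGroup_zpowers hj).to_sup_of_normal_right' (isPGroup_zpowers hi) (zpowers_le.2 ?_)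
      refine mem_normalizer_fintype ?_
      rintro _ ⟨k, rfl⟩
      show f r * f q ^ k * (f r)⁻¹ ∈ zpowers (f q)
      rw [← conj_zpow, ← map_inv f, ← map_mul, ← map_mul, hrq, map_inv]
      exact zpow_mem (inv_mem (mem_zpowers _)) k
    obtain ⟨g, hg⟩ := exists_conj_subset_sylow hp ((genS S).mapSurjective hπs)
    set φ : Matrix.SpecialLinearGroup (Fin 2) (ZMod 5) →* M ⧸ O := (MulAut.conj g).toMonoidHom.comp f with hφ
    obtain ⟨x, hx, hxq⟩ : φ q ∈ T.map π := hg _ (mem_sup_left (mem_zpowers _))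
    obtain ⟨y, hy, hyr⟩ : φ r ∈ T.map π := hg _ (mem_sup_right (mem_zpowers _))
    have hφinj : Function.Injective φ :=
      (MulAut.conj g).injective.comp (L.subtype_injective.comp e.symm.injective)
    have hxx : x * x = ⁅x, y⁆ := by
      refine hinj _ (mul_mem hx hx) _ (mul_mem (mul_mem (mul_mem hx hy) (inv_mem hx)) (inv_mem hy)) ?_
      have e1 : q * q = ⁅q, r⁆ := by
        rw [commutatorElement_def, mul_assoc q r q⁻¹, mul_assoc, show r * q⁻¹ * r⁻¹ = (r * q * r⁻¹)⁻¹ by group,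
          hrq, inv_inv]
      rw [map_mul, map_commutatorElement, hxq, hyr, ← map_mul, e1, map_commutatorElement]
    refine ⟨x, hx, fun hz => hne (hφinj ?_), ?_⟩
    · have h1 := (mem_zc.1 ((mem_zc_subtype hSM).2 hz)).2 y hy
      have h2 := congrArg π h1
      rw [map_mul, map_mul, hxq, hyr, ← map_mul, ← map_mul] at h2
      exact h2
    · rw [← map_commutator_subtype hSM]
      exact ⟨x * x, hxx ▸ commutator_mem_commutator hx hy, rfl⟩
  · have hNe : (O.map M.subtype).subgroupOf M = O := comap_map_eq_self_of_injective M.subtype_injective O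
    have hNn : (O.map M.subtype).Normal := by
      haveI : O.Characteristic := Grp.instCharPPrimeCore
      infer_instance
    haveI hNn' : ((O.map M.subtype).subgroupOf M).Normal := by rw [hNe]; infer_instance
    refine ⟨O.map M.subtype, M, hNn, inferInstance, hNn', ⟨map_subtype_le _, fun hle => ?_⟩, ?_, twoGen_index_odd, ?_⟩
    · have hS1 : (S : Subgroup G) = ⊥ := by
        have h1 : IsPGroup 2 ↥((S : Subgroup G) ⊓ O.map M.subtype) := S.isPGroup'.to_le inf_le_left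
        rw [← inf_eq_left.2 (hSM.trans hle)]
        refine inf_eq_bot_of_coprime ?_
        obtain ⟨k, hk⟩ := IsPGroup.iff_card.1 S.isPGroup'
        rw [hk, Subgroup.card_map_of_injective M.subtype_injective]
        exact ((Grp.pPrimeCore_coprime (p := 2) (G := M)).pow_right k).symm
      rw [hS1, commutator_bot_left] at hcard2
      simp at hcard2
    · rw [Subgroup.card_map_of_injective M.subtype_injective]
      exact Nat.coprime_two_right.1 Grp.pPrimeCore_coprime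
    · let ψ : M ⧸ O ≃* M ⧸ (O.map M.subtype).subgroupOf M := QuotientGroup.quotientMulEquivOfEq hNe.symm
      have hA' : A.map ψ.toMonoidHom ≤ center _ := by
        rintro _ ⟨a, ha, rfl⟩
        refine mem_center_iff.2 fun z => ?_
        obtain ⟨w, rfl⟩ := ψ.surjective z
        show ψ w * ψ a = ψ a * ψ w
        rw [← map_mul, ← map_mul, mem_center_iff.1 (hA ha) w]
      refine ⟨A.map ψ.toMonoidHom, L.map ψ.toMonoidHom, isMulCommutative_of_central hA', hA2.map _,
        ⟨(L.equivMapOfInjective _ ψ.injective).symm.trans e⟩, fun a ha l _ => (mem_center_iff.1 (hA' ha) l).symm, ?_⟩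
      rw [← Subgroup.map_sup, hAL, map_top_of_surjective _ ψ.surjective]

end Cfsg.Agent.Invol.CentInt
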