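import Cfsg.Agent.Lib.Invol.CentInt.CaseCyclic
import Cfsg.Agent.Lib.Invol.CentInt.CaseNoncyclic
import Cfsg.Agent.Lib.Grp.Frattini

/-!
# From a group to the group generated by its 2-elements

`M` is generated by the 2-elements of `G`.  Unless `G = O(G) N(S)`, it satisfies the hypothesis of the
middle step itself or modulo its odd core.
-/

set_option autoImplicit false
set_option linter.style.haveILetI false

open Subgroup

namespace Cfsg.Agent.Invol.CentInt

variable {G : Type*} [Group G]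

/-- The subgroup generated by the 2-elements. -/
def twoGen (G : Type*) [Group G] : Subgroup G := Cfsg.pElementClosure 2 (⊤ : Subgroup G)

instance twoGen_normal : (twoGen G).Normal := by
  refine ⟨fun x hx g => ?_⟩
  have : (twoGen G).map (MulAut.conj g).toMonoidHom ≤ twoGen G := by
    rw [twoGen, Cfsg.pElementClosure, MonoidHom.map_closure]
    refine (closure_le _).2 ?_
    rintro _ ⟨y, ⟨-, k, hk⟩, rfl⟩
    refine subset_closure ⟨mem_top _, k, ?_⟩
    show orderOf (g * y * g⁻¹) = 2 ^ k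
    rw [orderOf_conj_eq, hk]
  exact this ⟨x, hx, rfl⟩

theorem twoGen_gen : Cfsg.pElementClosure 2 (⊤ : Subgroup (twoGen G)) = ⊤ := by
  refine eq_top_iff.2 fun x _ => ?_
  have h : twoGen G ≤ (Cfsg.pElementClosure 2 (⊤ : Subgroup (twoGen G))).map (twoGen G).subtype := by
    conv_lhs => rw [twoGen, Cfsg.pElementClosure]
    refine (closure_le _).2 ?_
    rintro y ⟨-, k, hk⟩
    exact ⟨⟨y, subset_closure ⟨mem_top y, k, hk⟩⟩, subset_closure ⟨mem_top _, k, by
      rw [← Subgroup.orderOf_coe]; exact hk⟩, rfl⟩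
  obtain ⟨y, hy, he⟩ := h x.2
  rwa [← Subtype.ext he]

theorem sylow_le_twoGen [Finite G] (S : Sylow 2 G) : (S : Subgroup G) ≤ twoGen G := fun s hs => by
  obtain ⟨k, hk⟩ := S.isPGroup' ⟨s, hs⟩
  obtain ⟨j, -, hj⟩ := (Nat.dvd_prime_pow Nat.prime_two).1
    (orderOf_dvd_of_pow_eq_one (show s ^ 2 ^ k = 1 by simpa using congrArg Subtype.val hk))
  exact subset_closure ⟨mem_top s, j, hj⟩

theorem twoGen_index_odd [Finite G] : Odd (twoGen G).index := by
  haveI : Fact (Nat.Prime 2) := ⟨Nat.prime_two⟩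
  obtain ⟨S⟩ : Nonempty (Sylow 2 G) := inferInstance
  exact Nat.odd_iff.2 (Nat.two_dvd_ne_zero.1 fun h => S.not_dvd_index (h.trans (index_dvd_of_le (sylow_le_twoGen S))))

variable [Finite G]

/-- The Sylow subgroup of `twoGen G`. -/
noncomputable abbrev genS (S : Sylow 2 G) : Sylow 2 (twoGen G) := S.subtype (sylow_le_twoGen S)

theorem map_core_le : (Cfsg.pPrimeCore 2 (twoGen G)).map (twoGen G).subtype ≤ Cfsg.pPrimeCore 2 G := by
  haveI : Fact (Nat.Prime 2) := ⟨Nat.prime_two⟩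
  rw [Grp.pPrimeCore_map_eq]
  exact inf_le_left

/-- If `O(M) S` is normal in `M` then `G = O(G) N(S)`. -/
theorem split_of_normal {S : Sylow 2 G}
    (h : (Cfsg.pPrimeCore 2 (twoGen G) ⊔ ((genS S : Sylow 2 (twoGen G)) : Subgroup (twoGen G))).Normal) :
    Cfsg.pPrimeCore 2 G ⊔ normalizer ((S : Subgroup G) : Set G) = ⊤ := by
  haveI : Fact (Nat.Prime 2) := ⟨Nat.prime_two⟩
  set P := Cfsg.pPrimeCore 2 (twoGen G) ⊔ ((genS S : Sylow 2 (twoGen G)) : Subgroup (twoGen G)) with hP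
  haveI := h
  -- `P` is everything, as `M` is generated by 2-elements
  have hPtop : P = ⊤ := eq_top_iff.2 (twoGen_gen.ge.trans ((closure_le _).2 fun y hy => by
    obtain ⟨-, k, hk⟩ := hy
    obtain ⟨g, hg⟩ := exists_conj_mem_sylow hk (genS S)
    have h1 := h.conj_mem _ (mem_sup_right (S := Cfsg.pPrimeCore 2 (twoGen G)) hg) g⁻¹
    simpa [mul_assoc] using h1))
  refine eq_top_iff.2 fun g _ => ?_
  -- Frattini
  have hmem : twoGen G ≤ Cfsg.pPrimeCore 2 G ⊔ (S : Subgroup G) := by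
    have h2 := congrArg (Subgroup.map (twoGen G).subtype) hPtop
    rw [hP, Subgroup.map_sup, map_subtype_subtype, ← MonoidHom.range_eq_map, range_subtype] at h2
    exact h2.ge.trans (sup_le_sup_right map_core_le _)
  have hfr := Sylow.normalizer_sup_eq_top' S (sylow_le_twoGen S)
  rw [eq_top_iff] at hfr
  have key : ∀ {H : Subgroup G}, twoGen G ≤ H → normalizer ((S : Subgroup G) : Set G) ≤ H →
      normalizer ((S : Subgroup G) : Set G) ⊔ twoGen G ≤ H := fun h1 h2 => sup_le h2 h1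
  exact key (hmem.trans (sup_le le_sup_left (le_normalizer.trans le_sup_right))) le_sup_right
    (hfr (mem_top g))

theorem outside_genS {S : Sylow 2 G} (hna : ∃ x ∈ (S : Subgroup G), x ∉ zc S) :
    ∃ x ∈ ((genS S : Sylow 2 (twoGen G)) : Subgroup (twoGen G)), x ∉ zc (genS S) := by
  obtain ⟨x, hx, hxz⟩ := hna
  exact ⟨⟨x, sylow_le_twoGen S hx⟩, hx, fun h => hxz ((mem_zc_subtype (sylow_le_twoGen S)).1 h)⟩

theorem genS_isCyclic {S : Sylow 2 G} :
    IsCyclic ↥⁅((genS S : Sylow 2 (twoGen G)) : Subgroup (twoGen G)), ((genS S : Sylow 2 (twoGen G)) : Subgroup (twoGen G))⁆ ↔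
      IsCyclic ↥⁅(S : Subgroup G), (S : Subgroup G)⁆ := by
  rw [← map_commutator_subtype (sylow_le_twoGen S)]
  exact MulEquiv.isCyclic (equivMapOfInjective _ _ (twoGen G).subtype_injective)

/-- With `S'` not cyclic the middle hypothesis holds for `M` itself. -/
theorem mid_of_noncyclic (hCI : CI G) {S : Sylow 2 G} (hna : ∃ x ∈ (S : Subgroup G), x ∉ zc S)
    (hc : ¬ IsCyclic ↥⁅(S : Subgroup G), (S : Subgroup G)⁆)
    (hsplit : Cfsg.pPrimeCore 2 G ⊔ normalizer ((S : Subgroup G) : Set G) ≠ ⊤) : Mid (genS S) := by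
  haveI : Fact (Nat.Prime 2) := ⟨Nat.prime_two⟩
  haveI : (Cfsg.pPrimeCore 2 (twoGen G)).Normal := Grp.pPrimeCore_isNormal
  refine ⟨hCI.subgroup _, twoGen_gen, fun o ho => ?_, fun hn => hsplit (split_of_normal ?_), outside_genS hna⟩
  · have hle : twoGen G ≤ centralizer {(o : G)} := by
      refine (closure_le _).2 ?_
      rintro y ⟨-, k, hk⟩
      obtain ⟨T, hT⟩ := (isPGroup_zpowers (p := 2) hk).exists_le_sylow
      obtain ⟨a, ha⟩ := MulAction.exists_smul_eq G S T
      have hcT : ¬ IsCyclic ↥⁅(T : Subgroup G), (T : Subgroup G)⁆ := by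
        intro hcy
        apply hc
        rw [← ha, Sylow.coe_subgroup_smul, pointwise_smul_def] at hcy
        erw [← map_commutator] at hcy
        exact (MulEquiv.isCyclic (equivMapOfInjective _ _ (MulAut.conj a).injective)).2 hcy
      have h1 := le_centralizer_of_odd hCI hcT (Nat.coprime_two_right.1 Grp.pPrimeCore_coprime)
        (O := Cfsg.pPrimeCore 2 G) (by
          haveI : (Cfsg.pPrimeCore 2 G).Normal := Grp.pPrimeCore_isNormal
          rw [normalizer_eq_top]; exact le_top) (hT (mem_zpowers y))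
      exact mem_centralizer_singleton_iff.2 (mem_centralizer_iff.1 h1 o (map_core_le ⟨o, ho, rfl⟩)).symm
    exact mem_center_iff.2 fun m => Subtype.ext (mem_centralizer_singleton_iff.1 (hle m.2))
  · haveI := hn
    infer_instance

/-- Modulo its odd core, `M` always satisfies the middle hypothesis. -/
theorem mid_quot (hCI : CI G) {S : Sylow 2 G} (hna : ∃ x ∈ (S : Subgroup G), x ∉ zc S)
    (hsplit : Cfsg.pPrimeCore 2 G ⊔ normalizer ((S : Subgroup G) : Set G) ≠ ⊤)
    [hN : (Cfsg.pPrimeCore 2 (twoGen G)).Normal] :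
    haveI : Fact (Nat.Prime 2) := ⟨Nat.prime_two⟩
    Mid ((genS S).mapSurjective (QuotientGroup.mk'_surjective (Cfsg.pPrimeCore 2 (twoGen G)))) ∧
      Cfsg.pPrimeCore 2 (twoGen G ⧸ Cfsg.pPrimeCore 2 (twoGen G)) = ⊥ := by
  haveI : Fact (Nat.Prime 2) := ⟨Nat.prime_two⟩
  set O := Cfsg.pPrimeCore 2 (twoGen G) with hO
  have hbot : Cfsg.pPrimeCore 2 (twoGen G ⧸ O) = ⊥ := Grp.pPrimeCore_quotient_eq_bot
  set π := QuotientGroup.mk' O with hπ
  have hπs : Function.Surjective π := QuotientGroup.mk'_surjective O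
  refine ⟨⟨(hCI.subgroup _).map π hπs, pElementClosure_map_top twoGen_gen π hπs, hbot.le.trans bot_le,
    fun hn => hsplit (split_of_normal ?_), ?_⟩, hbot⟩
  · have := hn.comap π
    rwa [Sylow.coe_mapSurjective, comap_map_eq, hπ, QuotientGroup.ker_mk', sup_comm] at this
  · obtain ⟨x, hx, hxz⟩ := outside_genS (S := S) hna
    refine ⟨π x, ⟨x, hx, rfl⟩, fun hz => hxz (mem_zc.2 ⟨hx, fun s hs => ?_⟩)⟩
    have h1 : π (s * x) = π (x * s) := by
      rw [map_mul, map_mul]; exact (mem_zc.1 hz).2 (π s) ⟨s, hs, rfl⟩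
    have h2 : (s * x)⁻¹ * (x * s) ∈ O ⊓ ((genS S : Sylow 2 (twoGen G)) : Subgroup (twoGen G)) :=
      ⟨QuotientGroup.eq.1 h1, Subgroup.mul_mem _ (Subgroup.inv_mem _ (mul_mem hs hx)) (mul_mem hx hs)⟩
    have hinf : O ⊓ ((genS S : Sylow 2 (twoGen G)) : Subgroup (twoGen G)) = ⊥ := inf_eq_bot_of_coprime (by
      obtain ⟨k, hk⟩ := IsPGroup.iff_card.1 (genS S).isPGroup'
      rw [hk]
      exact (Grp.pPrimeCore_coprime (p := 2) (G := twoGen G)).pow_right k)
    rw [hinf, mem_bot, inv_mul_eq_one] at h2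
    exact h2

end Cfsg.Agent.Invol.CentInt
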