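import Cfsg.Agent.Lib.Invol.CentInt.Inner
import Cfsg.Agent.Lib.Grp.PLengthSeries
import Cfsg.Agent.S0205

/-!
# `G = O(G) N(S)`

Then `G` is soluble of 2-length one.
-/

set_option autoImplicit false
set_option linter.style.haveILetI false

open Subgroup

namespace Cfsg.Agent.Invol.CentInt

variable {G : Type*} [Group G] [Finite G] {S : Sylow 2 G}

/-- `O(G) S` is normal. -/
theorem core_sup_sylow_normal (h : Cfsg.pPrimeCore 2 G ⊔ normalizer ((S : Subgroup G) : Set G) = ⊤) :
    (Cfsg.pPrimeCore 2 G ⊔ (S : Subgroup G)).Normal := by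
  haveI : (Cfsg.pPrimeCore 2 G).Normal := Grp.pPrimeCore_isNormal
  refine normalizer_eq_top_iff.1 (eq_top_iff.2 (h.ge.trans (sup_le ?_ ?_)))
  · exact le_sup_left.trans le_normalizer
  · intro n hn
    refine mem_normalizer_iff_map_conj_eq.2 ?_
    rw [Subgroup.map_sup, mem_normalizer_iff_map_conj_eq.1 hn,
      mem_normalizer_iff_map_conj_eq.1 (show n ∈ normalizer ((Cfsg.pPrimeCore 2 G : Subgroup G) : Set G) by
        rw [normalizer_eq_top]; trivial)]

theorem solvable_pLength (h : Cfsg.pPrimeCore 2 G ⊔ normalizer ((S : Subgroup G) : Set G) = ⊤) :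
    Group.IsSolvable G ∧ Cfsg.PLengthLE 2 1 G := by
  haveI : Fact (Nat.Prime 2) := ⟨Nat.prime_two⟩
  set O := Cfsg.pPrimeCore 2 G with hO
  haveI : O.Normal := Grp.pPrimeCore_isNormal
  set P := O ⊔ (S : Subgroup G) with hP
  haveI hPn : P.Normal := core_sup_sylow_normal h
  have hOodd : Odd (Nat.card O) := Nat.coprime_two_right.1 Grp.pPrimeCore_coprime
  have hidx : ¬ 2 ∣ P.index := fun h2 => S.not_dvd_index (h2.trans (index_dvd_of_le le_sup_right))
  have hrel : ∃ m, O.relIndex P = 2 ^ m := by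
    rw [hP, sup_comm, relIndex_sup_right]
    obtain ⟨k, hk⟩ := IsPGroup.iff_card.1 S.isPGroup'
    obtain ⟨j, -, hj⟩ := (Nat.dvd_prime_pow Nat.prime_two).1 (hk ▸ relIndex_dvd_card O (S : Subgroup G))
    exact ⟨j, hj⟩
  constructor
  · haveI : Group.IsSolvable O := S0205.result hOodd
    haveI : Group.IsSolvable (G ⧸ P) := S0205.result (by
      rw [← Subgroup.index_eq_card]
      exact Nat.odd_iff.2 (by omega))
    obtain ⟨m, hm⟩ := hrel
    have hp2 : IsPGroup 2 ↥(P.map (QuotientGroup.mk' O)) := IsPGroup.of_card (n := m) (by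
      rw [← Subgroup.relIndex_ker, QuotientGroup.ker_mk', hm])
    haveI := hp2.isNilpotent
    haveI : Group.IsSolvable ↥(P.map (QuotientGroup.mk' O)) := inferInstance
    haveI : (P.map (QuotientGroup.mk' O)).Normal := hPn.map _ (QuotientGroup.mk'_surjective _)
    haveI : Group.IsSolvable ((G ⧸ O) ⧸ P.map (QuotientGroup.mk' O)) :=
      solvable_of_surjective (f := (QuotientGroup.quotientQuotientEquivQuotient O P le_sup_left).symm.toMonoidHom)
        (MulEquiv.surjective _)
    haveI : Group.IsSolvable (G ⧸ O) :=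
      solvable_of_ker_le_range (P.map (QuotientGroup.mk' O)).subtype
        (QuotientGroup.mk' (P.map (QuotientGroup.mk' O))) (by rw [QuotientGroup.ker_mk', range_subtype])
    exact solvable_of_ker_le_range O.subtype (QuotientGroup.mk' O) (by rw [QuotientGroup.ker_mk', range_subtype])
  · show Grp.uSer 2 G 3 = ⊤
    have h1 : O ≤ Grp.uSer 2 G 1 := Grp.le_uSer_succ_even (n := 0) Even.zero (A := O) inferInstance le_rfl (S := ⊥) (by
      rw [relIndex_bot_left]; exact Grp.pPrimeCore_not_dvd)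
    have h2 : P ≤ Grp.uSer 2 G 2 := Grp.le_uSer_succ_odd (n := 1) odd_one hPn h1 hrel
    exact top_le_iff.1 (Grp.le_uSer_succ_even (n := 2) even_two (A := ⊤) inferInstance h2
      (by rwa [relIndex_top_right]))

end Cfsg.Agent.Invol.CentInt
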