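import Cfsg.Agent.Lib.Invol.CentInt.Endgame
import Cfsg.Agent.Lib.Invol.CentInt.Split

/-!
# Central Sylow 2-intersections: the induction

The covering lemma is a hypothesis here.
-/

set_option autoImplicit false
set_option linter.style.haveILetI false

open Subgroup

namespace Cfsg.Agent.Invol.CentInt

universe u

/-- The covering lemma. -/
def CoverStmt : Prop :=
  ∀ (M : Type u) [Group M] [Finite M], Cfsg.pElementClosure 2 (⊤ : Subgroup M) = ⊤ →
    (∀ S : Sylow 2 M, ¬ IsMulCommutative ↥(S : Subgroup M)) → IsBenderGrp (M ⧸ center M) → Decomp M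

theorem nonabelian_of_outside {M : Type u} [Group M] [Finite M] {S : Sylow 2 M}
    (h : ∃ x ∈ (S : Subgroup M), x ∉ zc S) (T : Sylow 2 M) : ¬ IsMulCommutative ↥(T : Subgroup M) := by
  haveI : Fact (Nat.Prime 2) := ⟨Nat.prime_two⟩
  intro hT
  obtain ⟨x, hx, hxz⟩ := h
  let e := S.equiv T
  refine hxz (mem_zc.2 ⟨hx, fun s hs => ?_⟩)
  exact congrArg Subtype.val (e.injective (by rw [map_mul, map_mul]; exact hT.is_comm.comm _ _) :
    (⟨s, hs⟩ : ↥(S : Subgroup M)) * ⟨x, hx⟩ = ⟨x, hx⟩ * ⟨s, hs⟩)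

/-- What is proved by induction. -/
def Holds (G : Type u) [Group G] [Finite G] : Prop :=
  CI G → ∀ S : Sylow 2 G, (∃ x ∈ (S : Subgroup G), x ∉ zc S) →
    Inner S ∧ ((Group.IsSolvable G ∧ Cfsg.PLengthLE 2 1 G) ∨ Big G)

theorem holds (hcov : CoverStmt.{u}) : ∀ (n : ℕ) (G : Type u) [Group G] [Finite G], Nat.card G = n → Holds G := by
  haveI : Fact (Nat.Prime 2) := ⟨Nat.prime_two⟩
  intro n
  induction n using Nat.strong_induction_on with
  | _ n ih =>
  intro G _ _ hn hCI S hna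
  by_cases hsplit : Cfsg.pPrimeCore 2 G ⊔ normalizer ((S : Subgroup G) : Set G) = ⊤
  · exact ⟨Or.inl hsplit, Or.inl (solvable_pLength hsplit)⟩
  -- the induction hypothesis at centralisers
  have key : ∀ (X : Type u) [Group X] [Finite X] (T : Sylow 2 X), Mid T → Nat.card X ≤ n →
      ∀ x ∈ zc T, x ∉ center X → ∀ hle : (T : Subgroup X) ≤ centralizer ({x} : Set X), Inner (T.subtype hle) := by
    intro X _ _ T hT hX x _ hxc hle
    have hlt : Nat.card ↥(centralizer ({x} : Set X)) < Nat.card X := by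
      rcases lt_or_eq_of_le (Subgroup.card_le_card_group (centralizer ({x} : Set X))) with h | h
      · exact h
      · exfalso
        refine hxc (mem_center_iff.2 fun g => mem_centralizer_singleton_iff.1 ?_)
        rw [Subgroup.eq_top_of_card_eq _ h]
        exact mem_top g
    obtain ⟨y, hy, hyz⟩ := hT.outside
    exact (ih _ (lt_of_lt_of_le hlt hX) _ rfl (hT.ci.subgroup _) (T.subtype hle)
      ⟨⟨y, hle hy⟩, hy, fun h => hyz ((mem_zc_subtype hle).1 h)⟩).1
  have hMle : Nat.card ↥(twoGen G) ≤ n := hn ▸ Subgroup.card_le_card_group _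
  haveI : (Cfsg.pPrimeCore 2 (twoGen G)).Normal := Grp.pPrimeCore_isNormal
  by_cases hc : IsCyclic ↥⁅(S : Subgroup G), (S : Subgroup G)⁆
  · obtain ⟨hmid, hbot⟩ := mid_quot hCI hna hsplit
    set T := (genS S).mapSurjective (QuotientGroup.mk'_surjective (Cfsg.pPrimeCore 2 (twoGen G))) with hT
    have hle : Nat.card (↥(twoGen G) ⧸ Cfsg.pPrimeCore 2 (twoGen G)) ≤ n :=
      (Nat.card_le_card_of_surjective _ (QuotientGroup.mk'_surjective _)).trans hMle
    have hcT : IsCyclic ↥⁅(T : Subgroup (↥(twoGen G) ⧸ Cfsg.pPrimeCore 2 (twoGen G))),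
        (T : Subgroup (↥(twoGen G) ⧸ Cfsg.pPrimeCore 2 (twoGen G)))⁆ := by
      haveI := genS_isCyclic.2 hc
      rw [hT, Sylow.coe_mapSurjective, ← map_commutator]
      exact isCyclic_of_surjective _ (MonoidHom.subgroupMap_surjective _ _)
    have hB := hmid.bender_of_cyclic hbot hcT (key _ T hmid hle)
    obtain ⟨h1, h2⟩ := endgame_cyclic hc (hcov _ hmid.gen (nonabelian_of_outside hmid.outside) hB)
    exact ⟨h1, Or.inr h2⟩
  · have hmid := mid_of_noncyclic hCI hna hc hsplit
    have hB := hmid.bender_of_noncyclic (fun h => hc (genS_isCyclic.1 h)) (key _ _ hmid hMle)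
    obtain ⟨h1, h2⟩ := endgame_noncyclic hc hB (hcov _ hmid.gen (nonabelian_of_outside hmid.outside) hB)
    exact ⟨h1, Or.inr h2⟩

end Cfsg.Agent.Invol.CentInt
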