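import Cfsg.Agent.Lib.Invol.CentInt.Strong

/-!
# The quotient by the centre

`M` is generated by 2-elements, its odd core is central and its Sylow 2-subgroup `S` is neither abelian
nor normal.  A bad involution of `M / Z(M)` comes from an element of `Z(S)`; if there is a good one
that never multiplies two bad ones into one another, `M / Z(M)` is a Bender group.
-/

set_option autoImplicit false
set_option linter.style.haveILetI false

open Subgroup

namespace Cfsg.Agent.Invol.CentInt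

variable {M : Type*} [Group M] [Finite M]

/-- The hypothesis on `M`. -/
structure Mid (S : Sylow 2 M) : Prop where
  ci : CI M
  gen : Cfsg.pElementClosure 2 (⊤ : Subgroup M) = ⊤
  core : Cfsg.pPrimeCore 2 M ≤ center M
  notNormal : ¬ (S : Subgroup M).Normal
  outside : ∃ x ∈ (S : Subgroup M), x ∉ zc S

/-- The Sylow subgroup of the quotient by the centre. -/
noncomputable abbrev qS (S : Sylow 2 M) : Sylow 2 (M ⧸ center M) :=
  haveI : Fact (Nat.Prime 2) := ⟨Nat.prime_two⟩
  S.mapSurjective (QuotientGroup.mk'_surjective (center M))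

variable {S : Sylow 2 M}

theorem mk_eq_one_iff {x : M} : (x : M ⧸ center M) = 1 ↔ x ∈ center M := QuotientGroup.eq_one_iff x

theorem mem_qS {w : M ⧸ center M} : w ∈ (qS S : Subgroup (M ⧸ center M)) ↔ ∃ x ∈ (S : Subgroup M), (x : M ⧸ center M) = w :=
  Iff.rfl

theorem center_mem_of_two {x : M} {n : ℕ} (hx : orderOf x = 2 ^ n) (hc : x ∈ center M) : x ∈ (S : Subgroup M) :=
  two_elem_mem_sylow hx (mem_normalizer_iff.2 fun y => by
    rw [← mem_center_iff.1 hc y, mul_inv_cancel_right])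

/-- A quotient of two elements of `S` lying in `S` times the centre is in `Z(S)`. -/
theorem center_inf_le_zc : center M ⊓ (S : Subgroup M) ≤ zc S := fun x hx =>
  mem_zc.2 ⟨hx.2, fun s _ => mem_center_iff.1 hx.1 s⟩

theorem Mid.lift_bad (h : Mid S) {w : M ⧸ center M} (hw : Bad (qS S) w) {x : M} (hxS : x ∈ (S : Subgroup M))
    (hxw : (x : M ⧸ center M) = w) :
    x ∈ zc S ∧ x * x ∈ center M ∧ x ∉ center M ∧
      ¬ centralizer ({x} : Set M) ≤ normalizer ((S : Subgroup M) : Set M) := by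
  haveI : Fact (Nat.Prime 2) := ⟨Nat.prime_two⟩
  subst hxw
  have hxx : x * x ∈ center M := mk_eq_one_iff.1 (by rw [QuotientGroup.mk_mul]; exact mul_self_of_orderOf_two hw.1)
  have hx1 : x ∉ center M := fun hc => ne_one_of_orderOf_two hw.1 (mk_eq_one_iff.2 hc)
  obtain ⟨g', hg', hgN⟩ := SetLike.not_le_iff_exists.1 hw.2.2
  obtain ⟨g, rfl⟩ := QuotientGroup.mk_surjective g'
  rw [mem_centralizer_singleton_iff, ← QuotientGroup.mk_mul, ← QuotientGroup.mk_mul, QuotientGroup.eq] at hg'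
  set d := x⁻¹ * (g * x * g⁻¹) with hd
  have hdc : d ∈ center M := by
    have e : d = ((g * x)⁻¹ * (x * g))⁻¹ := by
      have h0 : (g * x)⁻¹ * (x * g) = g⁻¹ * d⁻¹ * g := by rw [hd]; group
      have h1 : g * ((g * x)⁻¹ * (x * g)) * g⁻¹ = (g * x)⁻¹ * (x * g) := by
        rw [mem_center_iff.1 hg' g, mul_inv_cancel_right]
      rw [← h1, h0]; group
    rw [e]; exact inv_mem hg'
  obtain ⟨n, hn⟩ : ∃ n, x ^ 2 ^ n = 1 := by
    obtain ⟨n, hn⟩ := S.isPGroup' ⟨x, hxS⟩
    exact ⟨n, by simpa using congrArg Subtype.val hn⟩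
  have hd2 : d ^ 2 ^ n = 1 := by
    have hcomm : Commute x d := mem_center_iff.1 hdc x
    have e : g * x * g⁻¹ = x * d := by rw [hd]; group
    have h1 := congrArg (· ^ 2 ^ n) e
    simp only [conj_pow, hn, mul_one, mul_inv_cancel, hcomm.mul_pow, one_mul] at h1
    exact h1.symm
  obtain ⟨k, -, hk⟩ := (Nat.dvd_prime_pow Nat.prime_two).1 (orderOf_dvd_of_pow_eq_one hd2)
  have hdS : d ∈ (S : Subgroup M) := center_mem_of_two hk hdc
  have hconj : g * x * g⁻¹ = x * d := by rw [hd]; group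
  have hgn : g ∉ normalizer ((S : Subgroup M) : Set M) := fun hgn => hgN (mem_normalizer_iff.2 fun w => by
    constructor
    · rintro ⟨s, hs, rfl⟩
      exact ⟨g * s * g⁻¹, mem_normalizer_conj_mem hgn hs, by simp⟩
    · rintro ⟨s, hs, he⟩
      refine ⟨g⁻¹ * s * g, by have := mem_normalizer_conj_mem (inv_mem hgn) hs; rwa [inv_inv] at this, ?_⟩
      simp only [QuotientGroup.mk'_apply] at he
      simp [he, mul_assoc])
  by_cases hz : x ∈ zc S
  · have hd1 := eq_one_of_conj_mul h.ci hz (mem_zc.2 ⟨hdS, fun s _ => mem_center_iff.1 hdc s⟩)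
      (fun n _ => mem_center_iff.1 hdc n) hconj
    refine ⟨hz, hxx, hx1, fun hle => hgn (hle (mem_centralizer_singleton_iff.2 ?_))⟩
    rw [hd1, mul_one] at hconj
    exact mul_inv_eq_iff_eq_mul.1 hconj
  · exact absurd (mem_normalizer_of_conj h.ci hxS hz (hconj ▸ mul_mem hxS hdS)) hgn

/-- A lift of a bad involution, for the induction. -/
theorem Mid.exists_lift (h : Mid S) {w : M ⧸ center M} (hw : Bad (qS S) w) :
    ∃ x ∈ zc S, (x : M ⧸ center M) = w ∧ x * x ∈ center M ∧ x ∉ center M ∧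
      ¬ centralizer ({x} : Set M) ≤ normalizer ((S : Subgroup M) : Set M) := by
  obtain ⟨x, hxS, hxw⟩ := hw.2.1
  obtain ⟨h1, h2, h3, h4⟩ := h.lift_bad hw hxS hxw
  exact ⟨x, h1, hxw, h2, h3, h4⟩

theorem Mid.not_bad_of_outside (h : Mid S) {x : M} (hxS : x ∈ (S : Subgroup M)) (hx : x ∉ zc S) :
    ¬ Bad (qS S) (x : M ⧸ center M) := fun hb => hx (h.lift_bad hb hxS rfl).1

theorem Mid.pCore_quot (h : Mid S) : Cfsg.pCore 2 (M ⧸ center M) = ⊥ := by
  haveI : Fact (Nat.Prime 2) := ⟨Nat.prime_two⟩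
  haveI : (Cfsg.pCore 2 (M ⧸ center M)).Normal := Grp.pCore_isNormal
  refine (Subgroup.eq_bot_iff_forall _).2 fun w hw => ?_
  obtain ⟨x, hxS, rfl⟩ := mem_qS.1 (Grp.pCore_le_sylow (qS S) hw)
  -- its normal closure in `S` is central
  set P := (Cfsg.pCore 2 (M ⧸ center M)).comap (QuotientGroup.mk' (center M)) ⊓ (S : Subgroup M) with hP
  have hxP : x ∈ P := ⟨hw, hxS⟩
  have hcomap : ∀ g : M, (g : M ⧸ center M) ∈ Cfsg.pCore 2 (M ⧸ center M) →
      ∃ p ∈ P, ∃ z ∈ center M, g = p * z := by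
    intro g hg
    obtain ⟨s, hsS, hsg⟩ := mem_qS.1 (Grp.pCore_le_sylow (qS S) hg)
    rw [QuotientGroup.eq] at hsg
    refine ⟨s, ⟨?_, hsS⟩, s⁻¹ * g, hsg, (mul_inv_cancel_left s g).symm⟩
    show (s : M ⧸ center M) ∈ Cfsg.pCore 2 (M ⧸ center M)
    rw [QuotientGroup.eq.2 hsg]
    exact hg
  -- `P` is normal
  have hnorm : P.Normal := ⟨fun p hp g => by
    obtain ⟨q, hq, z, hz, he⟩ := hcomap (g * p * g⁻¹) (by
      simpa using (Grp.pCore_isNormal (p := 2) (G := M ⧸ center M)).conj_mem _ hp.1 (g : M ⧸ center M))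
    obtain ⟨n, hn⟩ := S.isPGroup' ⟨p, hp.2⟩
    obtain ⟨m, hm⟩ := S.isPGroup' ⟨q, hq.2⟩
    have hn' : p ^ 2 ^ n = 1 := by simpa using congrArg Subtype.val hn
    have hm' : q ^ 2 ^ m = 1 := by simpa using congrArg Subtype.val hm
    have hz2 : z ^ 2 ^ (n + m) = 1 := by
      have h1 := congrArg (· ^ 2 ^ (n + m)) he
      simp only [conj_pow, (show Commute q z from mem_center_iff.1 hz q).mul_pow] at h1
      have e1 : p ^ 2 ^ (n + m) = 1 := by rw [pow_add, pow_mul, hn', one_pow]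
      have e2 : q ^ 2 ^ (n + m) = 1 := by rw [pow_add, mul_comm, pow_mul, hm', one_pow]
      rw [e1, e2, mul_one, mul_inv_cancel, one_mul] at h1
      exact h1.symm
    obtain ⟨k, -, hk⟩ := (Nat.dvd_prime_pow Nat.prime_two).1 (orderOf_dvd_of_pow_eq_one hz2)
    have hzS : z ∈ (S : Subgroup M) := center_mem_of_two hk hz
    refine ⟨?_, he ▸ mul_mem hq.2 hzS⟩
    simpa using (Grp.pCore_isNormal (p := 2) (G := M ⧸ center M)).conj_mem _ hp.1 (g : M ⧸ center M)⟩
  -- it is central in every Sylow subgroup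
  refine mk_eq_one_iff.2 (mem_center_iff.2 fun g => ?_)
  have hsyl : ∀ T : Sylow 2 M, P ≤ (T : Subgroup M) := fun T =>
    haveI := hnorm
    ((S.isPGroup'.to_le inf_le_right).le_sylow_of_normal T)
  have hle : P ≤ zc S := fun p hp => by
    by_contra hpz
    refine h.notNormal (normalizer_eq_top_iff.1 (eq_top_iff.2 fun g _ => ?_))
    exact Sylow.smul_eq_iff_mem_normalizer.1 (sylow_unique h.ci (hsyl S hp) hpz (hsyl _ hp))
  have hcen : ∀ y ∈ {y : M | y ∈ (⊤ : Subgroup M) ∧ ∃ k : ℕ, orderOf y = 2 ^ k}, y * x = x * y := by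
    rintro y ⟨-, k, hk⟩
    obtain ⟨T, hT⟩ := (isPGroup_zpowers (p := 2) hk).exists_le_sylow
    obtain ⟨a, ha⟩ := MulAction.exists_smul_eq M S T
    have hy := hT (mem_zpowers y)
    rw [← ha, Sylow.coe_subgroup_smul, mem_pointwise_smul_iff_inv_smul_mem] at hy
    simp only [← map_inv, MulAut.smul_def, MulAut.conj_apply, inv_inv] at hy
    have hx' := mem_zc_of_commute (hle (by simpa using hnorm.conj_mem x hxP a⁻¹ : a⁻¹ * x * a ∈ P)) hy
    calc y * x = a * (a⁻¹ * y * a * (a⁻¹ * x * a)) * a⁻¹ := by group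
      _ = _ := by rw [hx']; group
  have hcl : g ∈ Cfsg.pElementClosure 2 (⊤ : Subgroup M) := by rw [h.gen]; exact mem_top g
  have hle' : Cfsg.pElementClosure 2 (⊤ : Subgroup M) ≤ centralizer ({x} : Set M) :=
    (closure_le _).2 fun y hy => mem_centralizer_singleton_iff.2 (hcen y hy)
  exact mem_centralizer_singleton_iff.1 (hle' hcl)

theorem Mid.pPrimeCore_quot (h : Mid S) : Cfsg.pPrimeCore 2 (M ⧸ center M) = ⊥ := by
  haveI : Fact (Nat.Prime 2) := ⟨Nat.prime_two⟩
  set K := (Cfsg.pPrimeCore 2 (M ⧸ center M)).comap (QuotientGroup.mk' (center M)) with hK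
  haveI : (Cfsg.pPrimeCore 2 (M ⧸ center M)).Normal := Grp.pPrimeCore_isNormal
  haveI hKn : K.Normal := Subgroup.Normal.comap inferInstance _
  obtain ⟨T⟩ : Nonempty (Sylow 2 K) := inferInstance
  -- the Sylow subgroup of `K` is central
  have hT : (T : Subgroup K) ≤ center K := fun t ht => by
    obtain ⟨n, hn⟩ := T.isPGroup' ⟨t, ht⟩
    have hn' : t ^ 2 ^ n = 1 := by simpa using congrArg Subtype.val hn
    have h1 : (⟨((t : M) : M ⧸ center M), t.2⟩ : Cfsg.pPrimeCore 2 (M ⧸ center M)) = 1 := by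
      have hp : (⟨((t : M) : M ⧸ center M), t.2⟩ : Cfsg.pPrimeCore 2 (M ⧸ center M)) ^ 2 ^ n = 1 :=
        Subtype.ext (by
          simpa using congrArg (fun u : K => ((u : M) : M ⧸ center M)) hn')
      exact (powCoprime ((Grp.pPrimeCore_coprime (p := 2) (G := M ⧸ center M)).pow_right n)).injective
        (by rw [powCoprime_apply, powCoprime_apply, hp, one_pow])
    have := mk_eq_one_iff.1 (congrArg Subtype.val h1)
    exact mem_center_iff.2 fun k => Subtype.ext (mem_center_iff.1 this k)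
  obtain ⟨C, hC, hCn⟩ : ∃ C : Subgroup K, (Nat.card C).Coprime 2 ∧ C.IsComplement' (T : Subgroup K) ∧ C.Normal := by
    have hTn : (T : Subgroup K) ≤ centralizer (T : Set K) := fun a ha =>
      mem_centralizer_iff.2 fun b _ => mem_center_iff.1 (hT ha) b
    have hle : normalizer (T : Set K) ≤ centralizer (T : Set K) := fun a _ =>
      mem_centralizer_iff.2 fun b hb => (mem_center_iff.1 (hT hb) a).symm
    refine ⟨(MonoidHom.transferSylow T hle).ker, ?_, MonoidHom.ker_transferSylow_isComplement' T hle,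
      inferInstance⟩
    exact (Nat.prime_two.coprime_iff_not_dvd.2 (MonoidHom.not_dvd_card_ker_transferSylow T hle)).symm
  haveI := hCn.2
  -- it is characteristic, so normal in `M`, so central
  have hchar : C.Characteristic := by
    refine characteristic_iff_map_le.2 fun φ => ?_
    have hcop : (Nat.card ↥(C.map φ.toMonoidHom)).Coprime C.index := by
      rw [Subgroup.card_map_of_injective φ.injective, hCn.1.symm.index_eq_card]
      obtain ⟨e, he⟩ := IsPGroup.iff_card.1 T.isPGroup'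
      rw [he]
      exact hC.pow_right e
    intro y hy
    rw [← QuotientGroup.eq_one_iff (N := C), ← orderOf_eq_one_iff]
    refine Nat.eq_one_of_dvd_coprimes hcop ?_ (orderOf_dvd_natCard _)
    exact (orderOf_map_dvd (QuotientGroup.mk' C) y).trans
      (by rw [← Subgroup.orderOf_mk y hy]; exact orderOf_dvd_natCard _)
  have hCc : C.map K.subtype ≤ center M := (Grp.le_pPrimeCore inferInstance
    (by rwa [Subgroup.card_map_of_injective K.subtype_injective])).trans h.core
  refine (Subgroup.eq_bot_iff_forall _).2 fun w hw => ?_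
  obtain ⟨k, rfl⟩ := QuotientGroup.mk_surjective w
  refine mk_eq_one_iff.2 ?_
  obtain ⟨⟨c, t⟩, he⟩ := hCn.1.2 (⟨k, hw⟩ : K)
  rw [show k = ((c : K) : M) * ((t : K) : M) from (congrArg Subtype.val he).symm]
  refine mul_mem (hCc ⟨c, c.2, rfl⟩) ?_
  obtain ⟨n, hn⟩ := T.isPGroup' t
  have h1 : ((((t : K) : M)) : M ⧸ center M) ^ 2 ^ n = 1 := by
    simpa using congrArg (fun u : (T : Subgroup K) => (((u : K) : M) : M ⧸ center M)) hn
  refine mk_eq_one_iff.1 ?_
  have hm : (((t : K) : M) : M ⧸ center M) ∈ Cfsg.pPrimeCore 2 (M ⧸ center M) := (t : K).2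
  have := (powCoprime (G := Cfsg.pPrimeCore 2 (M ⧸ center M))
    ((Grp.pPrimeCore_coprime (p := 2) (G := M ⧸ center M)).pow_right n)).injective
    (a₁ := ⟨_, hm⟩) (a₂ := 1) (Subtype.ext (by simpa using h1))
  exact congrArg Subtype.val this

theorem Mid.even_quot (h : Mid S) : 2 ∣ Nat.card (M ⧸ center M) := by
  haveI : Fact (Nat.Prime 2) := ⟨Nat.prime_two⟩
  obtain ⟨x, hxS, hx⟩ := h.outside
  have hne : (x : M ⧸ center M) ≠ 1 := fun e => hx (center_inf_le_zc ⟨mk_eq_one_iff.1 e, hxS⟩)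
  obtain ⟨n, hn⟩ := (qS S).isPGroup' ⟨_, (mem_qS.2 ⟨x, hxS, rfl⟩)⟩
  have hn' : (x : M ⧸ center M) ^ 2 ^ n = 1 := by
    have := congrArg Subtype.val hn
    rwa [SubmonoidClass.coe_pow, OneMemClass.coe_one] at this
  obtain ⟨k, -, hk⟩ := (Nat.dvd_prime_pow Nat.prime_two).1 (orderOf_dvd_of_pow_eq_one hn')
  have hk0 : k ≠ 0 := fun e => hne (orderOf_eq_one_iff.1 (by rw [hk, e, pow_zero]))
  exact (dvd_pow_self 2 hk0).trans (hk ▸ orderOf_dvd_natCard _)

/-- Without bad involutions the quotient by the centre is a Bender group. -/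
theorem Mid.bender_of_good (h : Mid S) (hgood : ∀ w, ¬ Bad (qS S) w) : IsBenderGrp (M ⧸ center M) :=
  CentInt.bender_of_good (h.ci.map _ (QuotientGroup.mk'_surjective (center M))) (qS S) h.even_quot h.pCore_quot
    h.pPrimeCore_quot (pElementClosure_map_top h.gen _ (QuotientGroup.mk'_surjective (center M))) hgood

/-- A good involution never multiplying a bad one into a bad one suffices. -/
theorem Mid.bender_of_pair (h : Mid S) {c : M ⧸ center M} (hc2 : orderOf c = 2)
    (hcS : c ∈ (qS S : Subgroup (M ⧸ center M))) (hgood : ¬ Bad (qS S) c)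
    (hcw : ∀ w, Bad (qS S) w → ¬ Bad (qS S) (c * w)) : IsBenderGrp (M ⧸ center M) := by
  refine h.bender_of_good fun b hb => ?_
  have hmem := fun g => bad_conj_mem (h.ci.map _ (QuotientGroup.mk'_surjective (center M))) hc2 hcS hgood hcw hb (g := g)
  have hle : Subgroup.normalClosure {b} ≤ Cfsg.pCore 2 (M ⧸ center M) :=
    Grp.le_pCore inferInstance ((qS S).isPGroup'.to_le ((closure_le _).2 fun y hy => by
      obtain ⟨_, rfl, hby⟩ := Group.mem_conjugatesOfSet_iff.1 hy
      obtain ⟨g, rfl⟩ := isConj_iff.1 hby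
      exact hmem g))
  rw [h.pCore_quot] at hle
  exact ne_one_of_orderOf_two hb.1 (mem_bot.1 (hle (subset_normalClosure rfl)))

/-- An element outside `Z(S)` with central square suffices. -/
theorem Mid.bender_of_outside (h : Mid S) {x : M} (hxS : x ∈ (S : Subgroup M)) (hx : x ∉ zc S)
    (hxx : x * x ∈ center M) : IsBenderGrp (M ⧸ center M) := by
  refine h.bender_of_pair (c := (x : M ⧸ center M)) (orderOf_two_iff.2 ⟨?_, ?_⟩) (mem_qS.2 ⟨x, hxS, rfl⟩)
    (h.not_bad_of_outside hxS hx) fun w hw hcw => ?_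
  · rw [← QuotientGroup.mk_mul]; exact mk_eq_one_iff.2 hxx
  · exact fun e => hx (center_inf_le_zc ⟨mk_eq_one_iff.1 e, hxS⟩)
  · obtain ⟨v, hvS, rfl⟩ := hw.2.1
    have h1 := (h.lift_bad hw hvS rfl).1
    have h2 := (h.lift_bad hcw (mul_mem hxS hvS) (by rw [QuotientGroup.mk_mul]; rfl)).1
    exact hx (by simpa using mul_mem h2 (inv_mem h1))

end Cfsg.Agent.Invol.CentInt
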