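import Cfsg.Agent.Lib.Invol.CentInt.Dihedral
import Cfsg.Agent.Lib.Invol.CentInt.BenderGrp
import Cfsg.Agent.Lib.Grp.Cores
import Cfsg.Agent.S2798

/-!
# No bad involution: a Bender group

Without bad involutions the normaliser of a Sylow 2-subgroup is strongly embedded.
-/

set_option autoImplicit false
set_option linter.style.haveILetI false

open Subgroup

namespace Cfsg.Agent.Invol.CentInt

variable {G : Type*} [Group G] [Finite G]

omit [Finite G] in
theorem pElementClosure_map_top (hgen : Cfsg.pElementClosure 2 (⊤ : Subgroup G) = ⊤) {K : Type*} [Group K]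
    (f : G →* K) (hf : Function.Surjective f) : Cfsg.pElementClosure 2 (⊤ : Subgroup K) = ⊤ := by
  refine eq_top_iff.2 ((show (Cfsg.pElementClosure 2 (⊤ : Subgroup G)).map f = ⊤ by
    rw [hgen, map_top_of_surjective f hf]).ge.trans ?_)
  rw [Cfsg.pElementClosure, MonoidHom.map_closure]
  refine (closure_le _).2 ?_
  rintro _ ⟨x, ⟨-, k, hk⟩, rfl⟩
  obtain ⟨j, -, hj⟩ := (Nat.dvd_prime_pow Nat.prime_two).1 (hk ▸ orderOf_map_dvd f x)
  exact subset_closure ⟨mem_top _, j, hj⟩

/-- Without a normal 2-subgroup and without a bad involution, a group without odd normal subgroups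
generated by 2-elements is one of Bender's groups. -/
theorem bender_of_good (hCI : CI G) (S : Sylow 2 G) (heven : 2 ∣ Nat.card G)
    (hO2 : Cfsg.pCore 2 G = ⊥) (hO : Cfsg.pPrimeCore 2 G = ⊥)
    (hgen : Cfsg.pElementClosure 2 (⊤ : Subgroup G) = ⊤) (hgood : ∀ w, ¬ Bad S w) : IsBenderGrp G := by
  haveI : Fact (Nat.Prime 2) := ⟨Nat.prime_two⟩
  set N := normalizer ((S : Subgroup G) : Set G) with hN
  have hS1 : (S : Subgroup G) ≠ ⊥ := S.ne_bot_of_dvd_card heven
  have hne : N ≠ ⊤ := fun e => hS1 <| le_bot_iff.1 (hO2 ▸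
    Grp.le_pCore (normalizer_eq_top_iff.1 e) S.isPGroup')
  have hdvd : 2 ∣ Nat.card N := (S.dvd_card_of_dvd_card heven).trans (card_dvd_of_le le_normalizer)
  have hcl : ∀ g : G, g ∉ N → ¬ 2 ∣ Nat.card ↥(N ⊓ N.map (MulAut.conj g).toMonoidHom) := fun g hg hd => by
    obtain ⟨t, htI, ht⟩ := exists_orderOf_prime_mem hd
    obtain ⟨htN, htg⟩ := mem_inf.1 htI
    rw [mem_map_conj] at htg
    have ht' : orderOf (g⁻¹ * t * g⁻¹⁻¹) = 2 := by rw [orderOf_conj_eq, ht]
    rw [inv_inv] at ht'
    have h1 := two_elem_mem_sylow (n := 1) (by simpa using ht) htN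
    have h2 := two_elem_mem_sylow (n := 1) (by simpa using ht') htg
    obtain ⟨n, hn, he⟩ := exists_normalizer_conj hCI (g := g⁻¹) h1 (by rwa [inv_inv])
    rw [inv_inv] at he
    have hc : centralizer ({t} : Set G) ≤ N := not_not.1 fun h => hgood t ⟨ht, h1, h⟩
    have hgn : g * n ∈ N := hc (mem_centralizer_singleton_iff.2 (by
      calc g * n * t = g * (n * t * n⁻¹) * n := by group
        _ = t * (g * n) := by rw [he]; group))
    refine hg ?_
    simpa using mul_mem hgn (inv_mem hn)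
  have hspe : Cfsg.IsStronglyPEmbedded 2 N := isStronglyPEmbedded_iff.2 ⟨hdvd, hne, hcl⟩
  haveI : (Cfsg.pPrimeCore 2 G).Normal := Grp.pPrimeCore_isNormal
  rcases S2798.result N hspe with h | h
  · -- an involution would be central
    obtain ⟨t, ht⟩ := exists_prime_orderOf_dvd_card' (G := G) 2 heven
    have h1 := (h t ht).1
    rw [hO, bot_sup_eq] at h1
    have hnorm : (zpowers t).Normal := ⟨fun x hx g => by
      obtain ⟨k, rfl⟩ := mem_zpowers_iff.1 hx
      have : Commute g t := mem_centralizer_singleton_iff.1 (h1 ▸ mem_top g)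
      rw [(this.zpow_right k).eq, mul_inv_cancel_right]
      exact zpow_mem (mem_zpowers t) k⟩
    have := (Grp.le_pCore hnorm (isPGroup_zpowers (p := 2) (n := 1) (by simpa using ht))).trans hO2.le
    rw [le_bot_iff, zpowers_eq_bot] at this
    exact absurd this (ne_one_of_orderOf_two ht)
  · let π : G →* G ⧸ Cfsg.pPrimeCore 2 G := QuotientGroup.mk' _
    have hbij : Function.Bijective π :=
      ⟨(MonoidHom.ker_eq_bot_iff π).1 (by rw [QuotientGroup.ker_mk', hO]), QuotientGroup.mk'_surjective _⟩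
    have htop : Cfsg.pElementClosure 2 (⊤ : Subgroup (G ⧸ Cfsg.pPrimeCore 2 G)) = ⊤ :=
      pElementClosure_map_top hgen π hbij.2
    let e : ↥(Cfsg.pElementClosure 2 (⊤ : Subgroup (G ⧸ Cfsg.pPrimeCore 2 G))) ≃* G :=
      ((MulEquiv.subgroupCongr htop).trans Subgroup.topEquiv).trans (MulEquiv.ofBijective π hbij).symm
    exact IsBenderGrp.congr h e

end Cfsg.Agent.Invol.CentInt
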